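import Cfsg.Agent.InvChar68.MinIndexSp.Frame
import Mathlib.GroupTheory.Coset.Card

/-!
The local lower bound for the index of a subgroup at a hyperbolic pair (helper68).
-/

set_option autoImplicit false

namespace Cfsg.Agent.InvChar68.MinIndexSp

open Cfsg Cfsg.Agent.Symplectic MulAction

variable {m : ℕ} {F : Type*} [Field F]

local notation "ω" => Cfsg.sympForm m F

theorem isLevi_conj_qel {u v w : Vec m F} {l : Sp m F} {a : Fˣ} (hl : IsLevi u v l a)
    (hw : ω u w = 0) (t : F) :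
    l * qel u w t = qel u ((a : F) • (l • w)) ((a : F) ^ 2 * t) * l := by
  rw [← mul_inv_eq_iff_eq_mul]
  exact conj_qel hw t a.ne_zero hl.1

/-- The parameters of the centre of the radical lying in `H`. -/
def Dg (H : Subgroup (Sp m F)) (u : Vec m F) : AddSubgroup F where
  carrier := {t | tv u t ∈ H}
  add_mem' := fun {a b} ha hb => by
    show tv u (a + b) ∈ H
    rw [← tv_mul_tv]
    exact H.mul_mem ha hb
  zero_mem' := by
    show tv u 0 ∈ H
    rw [tv_zero]
    exact H.one_mem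
  neg_mem' := fun {a} ha => by
    show tv u (-a) ∈ H
    rw [← tv_inv]
    exact H.inv_mem ha

theorem mem_Dg {H : Subgroup (Sp m F)} {u : Vec m F} {t : F} : t ∈ Dg H u ↔ tv u t ∈ H := Iff.rfl

/-- All transvections centred at `u` lie in `H`. -/
def Full (H : Subgroup (Sp m F)) (u : Vec m F) : Prop := ∀ c : F, tv u c ∈ H

theorem full_iff {H : Subgroup (Sp m F)} {u : Vec m F} : Full H u ↔ Dg H u = ⊤ := by
  rw [AddSubgroup.eq_top_iff']
  exact Iff.rfl

/-- The image of `H` in the radical modulo its centre. -/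
def Cb (H : Subgroup (Sp m F)) (u v : Vec m F) : AddSubgroup (Vec m F) where
  carrier := {w | w ∈ perp2 u v ∧ ∃ t, qel u w t ∈ H}
  add_mem' := by
    rintro a b ⟨ha, s, hs⟩ ⟨hb, t, ht⟩
    refine ⟨Submodule.add_mem _ ha hb, s + t + ω b a, ?_⟩
    rw [← qel_mul ha.1 hb.1]
    exact H.mul_mem hs ht
  zero_mem' := ⟨Submodule.zero_mem _, 0, by rw [qel_zero, tv_zero]; exact H.one_mem⟩
  neg_mem' := by
    rintro a ⟨ha, s, hs⟩
    refine ⟨Submodule.neg_mem _ ha, -s, ?_⟩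
    rw [← qel_inv ha.1]
    exact H.inv_mem hs

theorem mem_Cb {H : Subgroup (Sp m F)} {u v w : Vec m F} :
    w ∈ Cb H u v ↔ w ∈ perp2 u v ∧ ∃ t, qel u w t ∈ H := Iff.rfl

theorem Cb_le (H : Subgroup (Sp m F)) (u v : Vec m F) :
    Cb H u v ≤ (perp2 u v).toAddSubgroup := fun _ hw => hw.1

/-- A representative of `H` over a Levi element. -/
def Lifts (H : Subgroup (Sp m F)) (u v : Vec m F) (l : Sp m F) : Prop :=
  ∃ w ∈ perp2 u v, ∃ t, qel u w t * l ∈ H

theorem Lifts.mul {H : Subgroup (Sp m F)} {u v : Vec m F} {l l' : Sp m F} {a : Fˣ}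
    (hl : IsLevi u v l a) (h : Lifts H u v l) (h' : Lifts H u v l') : Lifts H u v (l * l') := by
  obtain ⟨w, hw, t, ht⟩ := h
  obtain ⟨w', hw', t', ht'⟩ := h'
  have hw2 : (a : F) • (l • w') ∈ perp2 u v := Submodule.smul_mem _ _ (hl.smul_mem hw')
  refine ⟨_, Submodule.add_mem _ hw hw2,
    t + (a : F) ^ 2 * t' + ω ((a : F) • (l • w')) w, ?_⟩
  have h := H.mul_mem ht ht'
  rwa [mul_assoc, ← mul_assoc l, isLevi_conj_qel hl hw'.1, mul_assoc, ← mul_assoc (qel u w t),
    qel_mul hw.1 hw2.1] at h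

theorem Lifts.inv {H : Subgroup (Sp m F)} {u v : Vec m F} {l : Sp m F} {a : Fˣ}
    (hl : IsLevi u v l a) (h : Lifts H u v l) : Lifts H u v l⁻¹ := by
  obtain ⟨w, hw, t, ht⟩ := h
  refine ⟨_, Submodule.smul_mem _ ((a⁻¹ : Fˣ) : F) (hl.inv.smul_mem (Submodule.neg_mem _ hw)),
    ((a⁻¹ : Fˣ) : F) ^ 2 * (-t), ?_⟩
  rw [← isLevi_conj_qel hl.inv (Submodule.neg_mem (perp2 u v) hw).1, ← qel_inv hw.1,
    ← mul_inv_rev]
  exact H.inv_mem ht

theorem Lifts.one (H : Subgroup (Sp m F)) (u v : Vec m F) : Lifts H u v 1 :=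
  ⟨0, Submodule.zero_mem _, 0, by rw [qel_zero, tv_zero, mul_one]; exact H.one_mem⟩

/-- The image of `H` in the fixer of the pair. -/
def M0 (H : Subgroup (Sp m F)) (u v : Vec m F) : Subgroup (Sp m F) where
  carrier := {l | l ∈ fixPair u v ∧ Lifts H u v l}
  mul_mem' := fun ha hb =>
    ⟨(fixPair u v).mul_mem ha.1 hb.1, Lifts.mul (isLevi_one_iff.2 ha.1) ha.2 hb.2⟩
  one_mem' := ⟨(fixPair u v).one_mem, Lifts.one H u v⟩
  inv_mem' := fun ha => ⟨(fixPair u v).inv_mem ha.1, Lifts.inv (isLevi_one_iff.2 ha.1) ha.2⟩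

theorem mem_M0 {H : Subgroup (Sp m F)} {u v : Vec m F} {l : Sp m F} :
    l ∈ M0 H u v ↔ l ∈ fixPair u v ∧ Lifts H u v l := Iff.rfl

/-- The scalars of the Levi elements lifting to `H`. -/
def Scal (H : Subgroup (Sp m F)) (u v : Vec m F) : Subgroup Fˣ where
  carrier := {a | ∃ l, IsLevi u v l a ∧ Lifts H u v l}
  mul_mem' := by
    rintro a b ⟨l, hl, h⟩ ⟨k, hk, h'⟩
    exact ⟨l * k, hl.mul hk, Lifts.mul hl h h'⟩
  one_mem' := ⟨1, isLevi_one_iff.2 (fixPair u v).one_mem, Lifts.one H u v⟩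
  inv_mem' := by
    rintro a ⟨l, hl, h⟩
    exact ⟨l⁻¹, hl.inv, Lifts.inv hl h⟩

theorem mem_Scal {H : Subgroup (Sp m F)} {u v : Vec m F} {a : Fˣ} :
    a ∈ Scal H u v ↔ ∃ l, IsLevi u v l a ∧ Lifts H u v l := Iff.rfl

theorem Dg_smul {H : Subgroup (Sp m F)} {u v : Vec m F} {a : Fˣ} (ha : a ∈ Scal H u v) {d : F}
    (hd : d ∈ Dg H u) : (a : F) ^ 2 * d ∈ Dg H u := by
  obtain ⟨l, hl, w, hw, t, ht⟩ := ha
  have h := H.mul_mem (H.mul_mem ht hd) (H.inv_mem ht)
  have e : (qel u w t * l) • u = (a : F) • u := by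
    rw [mul_smul, hl.1, smul_comm, qel_fix hw.1 t hw.1 (sympForm_self u)]
  rwa [conj_tv, e, tv_smul_vec] at h

theorem Cb_smul {H : Subgroup (Sp m F)} {u v : Vec m F} {l : Sp m F} {a : Fˣ}
    (hl : IsLevi u v l a) (h : Lifts H u v l) {y : Vec m F} (hy : y ∈ Cb H u v) :
    (a : F) • (l • y) ∈ Cb H u v := by
  obtain ⟨hy1, s, hs⟩ := hy
  obtain ⟨w, hw, t, ht⟩ := h
  have hy2 : (a : F) • (l • y) ∈ perp2 u v := Submodule.smul_mem _ _ (hl.smul_mem hy1)
  refine ⟨hy2, (a : F) ^ 2 * s + 2 * ω ((a : F) • (l • y)) w, ?_⟩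
  have h2 := H.mul_mem (H.mul_mem ht hs) (H.inv_mem ht)
  rw [mul_assoc (qel u w t), isLevi_conj_qel hl hy1.1, _root_.mul_inv_rev] at h2
  rw [← qel_conj_qel hw.1 hy2.1]
  simpa [mul_assoc] using h2

theorem M0_smul {H : Subgroup (Sp m F)} {u v : Vec m F} {l : Sp m F} (hl : l ∈ M0 H u v)
    {y : Vec m F} (hy : y ∈ Cb H u v) : l • y ∈ Cb H u v := by
  have := Cb_smul (isLevi_one_iff.2 hl.1) hl.2 hy
  rwa [Units.val_one, one_smul] at this

/-- The commutator of two elements of `H` in the radical. -/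
theorem two_mul_form_mem {H : Subgroup (Sp m F)} {u v y y' : Vec m F} (hy : y ∈ Cb H u v)
    (hy' : y' ∈ Cb H u v) : 2 * ω y y' ∈ Dg H u := by
  obtain ⟨hy1, s, hs⟩ := hy
  obtain ⟨hy1', s', hs'⟩ := hy'
  have h := H.mul_mem (H.mul_mem (H.mul_mem hs' hs) (H.inv_mem hs')) (H.inv_mem hs)
  rw [qel_conj_qel hy1'.1 hy1.1, qel_inv hy1.1,
    qel_mul hy1.1 (Submodule.neg_mem (perp2 u v) hy1).1, add_neg_cancel, qel_zero] at h
  rw [mem_Dg]
  convert h using 2
  have : ω (-y) y = 0 := by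
    rw [← neg_one_smul F y, sympForm_smul_left, sympForm_self, mul_zero]
  rw [this]
  ring

theorem key_bound [Finite F] (H : Subgroup (Sp m F)) {u v : Vec m F} (hp : ω u v = 1) :
    (Dg H u).index * (Cb H u v).relIndex (perp2 u v).toAddSubgroup *
      (M0 H u v).relIndex (fixPair u v) * (Scal H u v).index ≤ H.index := by
  set T := F ⧸ Dg H u
  set W := (perp2 u v).toAddSubgroup ⧸ (Cb H u v).addSubgroupOf (perp2 u v).toAddSubgroup
  set L := fixPair u v ⧸ (M0 H u v).subgroupOf (fixPair u v)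
  set A := Fˣ ⧸ Scal H u v
  have hcard : Nat.card (((T × W) × L) × A) = (Dg H u).index *
      (Cb H u v).relIndex (perp2 u v).toAddSubgroup *
        (M0 H u v).relIndex (fixPair u v) * (Scal H u v).index := by
    rw [Nat.card_prod, Nat.card_prod, Nat.card_prod]
    rfl
  rw [← hcard, Subgroup.index]
  refine Nat.card_le_card_of_injective (fun x => (QuotientGroup.mk
    (dd hp x.2.out * (x.1.2.out : Sp m F) *
      qel u (x.1.1.2.out : Vec m F) (x.1.1.1.out : F)) : Sp m F ⧸ H)) ?_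
  rintro ⟨⟨⟨T₁, W₁⟩, L₁⟩, A₁⟩ ⟨⟨⟨T₂, W₂⟩, L₂⟩, A₂⟩ h
  simp only at h
  rw [QuotientGroup.eq] at h
  have hw₁ : (W₁.out : Vec m F) ∈ perp2 u v := W₁.out.2
  have hw₂ : (W₂.out : Vec m F) ∈ perp2 u v := W₂.out.2
  set l₁ : Sp m F := (L₁.out : Sp m F) with hl₁
  set l₂ : Sp m F := (L₂.out : Sp m F) with hl₂
  set l := l₁⁻¹ * (dd hp A₁.out)⁻¹ * (dd hp A₂.out) * l₂ with hldef
  set a := A₁.out⁻¹ * A₂.out with hadef
  have hl : IsLevi u v l a := by
    have := (((isLevi_one_iff.2 L₁.out.2).inv.mul (dd_isLevi hp A₁.out).inv).mul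
      (dd_isLevi hp A₂.out)).mul (isLevi_one_iff.2 L₂.out.2)
    rwa [inv_one, one_mul, mul_one] at this
  set w₁ : Vec m F := (W₁.out : Vec m F)
  set w₂ : Vec m F := (W₂.out : Vec m F)
  have key : qel u (-w₁) (-T₁.out) * (l * qel u w₂ T₂.out) ∈ H := by
    rw [← qel_inv hw₁.1, hldef]
    simpa [_root_.mul_inv_rev, mul_assoc] using h
  rw [isLevi_conj_qel hl hw₂.1, ← mul_assoc,
    qel_mul (Submodule.neg_mem (perp2 u v) hw₁).1
      (Submodule.smul_mem (perp2 u v) _ (hl.smul_mem hw₂)).1] at key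
  have hlift : Lifts H u v l :=
    ⟨_, Submodule.add_mem _ (Submodule.neg_mem _ hw₁)
      (Submodule.smul_mem _ _ (hl.smul_mem hw₂)), _, key⟩
  have hA : A₁ = A₂ := by
    rw [← A₁.out_eq', ← A₂.out_eq', QuotientGroup.eq]
    exact ⟨l, hl, hlift⟩
  subst hA
  have ha : a = 1 := inv_mul_cancel _
  have hl' : l = l₁⁻¹ * l₂ := by rw [hldef, inv_mul_cancel_right]
  rw [ha] at hl key
  have hL : L₁ = L₂ := by
    rw [← L₁.out_eq', ← L₂.out_eq', QuotientGroup.eq, Subgroup.mem_subgroupOf]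
    show l₁⁻¹ * l₂ ∈ M0 H u v
    exact hl' ▸ ⟨isLevi_one_iff.1 hl, hlift⟩
  subst hL
  have hl1 : l = 1 := hl'.trans (inv_mul_cancel l₁)
  rw [hl1, one_smul, Units.val_one, one_smul, mul_one, one_pow, one_mul] at key
  have hW : W₁ = W₂ := by
    rw [← W₁.out_eq', ← W₂.out_eq', QuotientAddGroup.eq, AddSubgroup.mem_addSubgroupOf]
    exact ⟨Submodule.add_mem _ (Submodule.neg_mem _ hw₁) hw₂, _, key⟩
  subst hW
  have hT : T₁ = T₂ := by
    rw [← T₁.out_eq', ← T₂.out_eq', QuotientAddGroup.eq, mem_Dg]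
    rw [neg_add_cancel, qel_zero] at key
    have : ω w₁ (-w₁) = 0 := by
      rw [← neg_one_smul F w₁, sympForm_smul_right, sympForm_self, mul_zero]
    rwa [this, add_zero] at key
  subst hT
  rfl

/-- The torus part of the bound. -/
theorem rho_bound [Fintype F] (H : Subgroup (Sp m F)) {u v : Vec m F} (hD : Dg H u ≠ ⊤) :
    Fintype.card F ≤ 2 * ((Dg H u).index * (Scal H u v).index) ∧
      ((2 : F) = 0 → Fintype.card F ≤ (Dg H u).index * (Scal H u v).index) := by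
  classical
  set D := Dg H u
  set A := Scal H u v
  set q := Fintype.card F with hq
  let S : Finset F := Finset.univ.filter fun x => ∀ d ∈ D, x * d ∈ D
  have hS : ∀ x, x ∈ S ↔ ∀ d ∈ D, x * d ∈ D := fun x => by simp [S]
  have h0 : (0 : F) ∈ S := (hS _).2 fun d _ => by rw [zero_mul]; exact D.zero_mem
  have h1 : (1 : F) ∈ S := (hS _).2 fun d hd => by rwa [one_mul]
  have hpow : ∀ x ∈ S, ∀ n : ℕ, x ^ n ∈ S := by
    intro x hx n
    induction n with
    | zero => rw [pow_zero]; exact h1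
    | succ n ih =>
      refine (hS _).2 fun d hd => ?_
      rw [pow_succ, mul_assoc]
      exact (hS _).1 ih _ ((hS _).1 hx d hd)
  obtain ⟨c, hc⟩ : ∃ c, c ∉ D := by
    by_contra h
    exact hD ((AddSubgroup.eq_top_iff' D).2 fun x => by
      by_contra hx
      exact h ⟨x, hx⟩)
  have hfr : S.card ≤ D.index := by
    rw [AddSubgroup.index, ← Nat.card_eq_finsetCard]
    refine Nat.card_le_card_of_injective
      (fun x : S => (QuotientAddGroup.mk ((x : F) * c) : F ⧸ D)) ?_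
    rintro ⟨x, hx⟩ ⟨y, hy⟩ h
    rw [QuotientAddGroup.eq] at h
    by_contra hne
    have hne' : -x + y ≠ 0 := by
      intro h0
      exact hne (Subtype.ext (neg_add_eq_zero.1 h0))
    have hd : -x + y ∈ S := (hS _).2 fun d hd => by
      rw [add_mul, neg_mul]
      exact D.add_mem (D.neg_mem ((hS _).1 hx d hd)) ((hS _).1 hy d hd)
    have hinv := (hS _).1 (hpow _ hd (q - 2)) _ (show (-x + y) * c ∈ D by
      rwa [add_mul, neg_mul])
    refine hc ?_
    have hq2 : 2 ≤ q := Fintype.one_lt_card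
    rwa [← mul_assoc, ← pow_succ, show q - 2 + 1 = q - 1 by omega,
      FiniteField.pow_card_sub_one_eq_one _ hne', one_mul] at hinv
  have hsq : ∀ a : A, ((a : Fˣ) : F) ^ 2 ∈ S.erase 0 := fun a =>
    Finset.mem_erase.2 ⟨pow_ne_zero _ (Units.ne_zero _), (hS _).2 fun d hd => Dg_smul a.2 hd⟩
  let g : A → F := fun a => ((a : Fˣ) : F) ^ 2
  have himg : Finset.univ.image g ⊆ S.erase 0 := fun y hy => by
    obtain ⟨a, -, rfl⟩ := Finset.mem_image.1 hy
    exact hsq a
  have hA2 : Fintype.card A ≤ 2 * (S.card - 1) := by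
    refine le_trans ?_ (Nat.mul_le_mul_left 2
      ((Finset.card_le_card himg).trans (Finset.card_erase_of_mem h0).le))
    refine Finset.card_le_mul_card_image _ _ fun y hy => ?_
    obtain ⟨b, -, rfl⟩ := Finset.mem_image.1 hy
    refine le_trans (Finset.card_le_card_of_injOn (fun a : A => ((a : Fˣ) : F))
      (t := {((b : Fˣ) : F), -((b : Fˣ) : F)}) ?_ ?_) Finset.card_le_two
    · intro a ha
      simp only [Finset.coe_filter, Set.mem_setOf_eq, g] at ha
      rcases sq_eq_sq_iff_eq_or_eq_neg.1 ha.2 with h | h <;> simp [h]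
    · intro a _ a' _ h
      exact Subtype.ext (Units.ext h)
  have hA1 : (2 : F) = 0 → Fintype.card A ≤ S.card - 1 := fun h2 => by
    rw [← Finset.card_erase_of_mem h0]
    refine Finset.card_le_card_of_injOn g (fun a _ => hsq a) fun a _ a' _ h => ?_
    refine Subtype.ext (Units.ext ?_)
    rcases sq_eq_sq_iff_eq_or_eq_neg.1 h with h | h
    · exact h
    · rw [h]
      linear_combination (-((a' : Fˣ) : F)) * h2
  have hAe : Fintype.card A * A.index = q - 1 := by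
    rw [← Nat.card_eq_fintype_card, A.card_mul_index, Nat.card_units, Nat.card_eq_fintype_card]
  have hSq : S.card ≤ q := Finset.card_le_univ S
  have hS2 : 2 ≤ S.card := by
    refine Finset.one_lt_card.2 ⟨0, h0, 1, h1, zero_ne_one⟩
  obtain ⟨f, hf⟩ : ∃ f, S.card = f + 1 := ⟨S.card - 1, by omega⟩
  rw [hf, Nat.add_sub_cancel] at hA2 hA1
  rw [hf] at hfr hSq hS2
  have hq1 : 1 ≤ q := by omega
  have main : ∀ k : ℕ, Fintype.card A ≤ k * f → q ≤ k * (D.index * A.index) := by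
    intro k hk
    by_contra hlt
    rw [not_le] at hlt
    have e1 : (f + 1) * (Fintype.card A * A.index) ≤ k * (D.index * A.index) * f := by
      calc (f + 1) * (Fintype.card A * A.index) ≤ D.index * (k * f * A.index) := by gcongr
        _ = k * (D.index * A.index) * f := by ring
    rw [hAe] at e1
    have e2 : k * (D.index * A.index) * f + f ≤ q * f := by
      calc k * (D.index * A.index) * f + f = (k * (D.index * A.index) + 1) * f := by ring
        _ ≤ q * f := by gcongr; omega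
    obtain ⟨q', hq'⟩ : ∃ q', q = q' + 1 := ⟨q - 1, by omega⟩
    rw [hq', Nat.add_sub_cancel] at e1
    rw [hq'] at e2 hSq
    nlinarith [e1, e2, hSq, hS2]
  exact ⟨main 2 hA2, fun h2 => by simpa using main 1 (by simpa using hA1 h2)⟩

theorem prime_le_index [Fintype F] {p : ℕ} [hpf : Fact p.Prime] [CharP F p] {D : AddSubgroup F}
    (hD : D ≠ ⊤) : p ≤ D.index := by
  obtain ⟨n, -, hn⟩ := FiniteField.card F p
  have h1 : D.index ∣ p ^ (n : ℕ) := by
    rw [← hn, ← Nat.card_eq_fintype_card]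
    exact D.index_dvd_card
  obtain ⟨k, -, hk⟩ := (Nat.dvd_prime_pow hpf.out).1 h1
  have hk0 : k ≠ 0 := fun h => hD (AddSubgroup.index_eq_one.1 (by rw [hk, h, pow_zero]))
  rw [hk]
  exact Nat.le_self_pow hk0 p

end Cfsg.Agent.InvChar68.MinIndexSp
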