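import Mathlib.GroupTheory.GroupAction.Defs
import Mathlib.GroupTheory.Index
import Mathlib.Combinatorics.Enumerative.DoubleCounting
import Mathlib.Algebra.Group.Action.Pointwise.Set.Basic
import Mathlib.Data.Set.Card
import Mathlib.Algebra.Field.ZMod

/-!
Double counting on the images of a set under a subgroup (helper68).
-/

set_option autoImplicit false

namespace Cfsg.Agent.InvChar68.MinIndexSp

open scoped Pointwise

variable {G X : Type*} [Group G] [MulAction G X]

/-- The images of `Y` under the subgroup `L`. -/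
def setOrbit (L : Subgroup G) (Y : Set X) : Set (Set X) := {Z | ∃ l ∈ L, Z = l • Y}

theorem self_mem_setOrbit (L : Subgroup G) (Y : Set X) : Y ∈ setOrbit L Y :=
  ⟨1, L.one_mem, (one_smul G Y).symm⟩

theorem smul_mem_setOrbit {L : Subgroup G} {Y Z : Set X} {l : G} (hl : l ∈ L)
    (hZ : Z ∈ setOrbit L Y) : l • Z ∈ setOrbit L Y := by
  obtain ⟨k, hk, rfl⟩ := hZ
  exact ⟨l * k, L.mul_mem hl hk, (mul_smul l k Y).symm⟩

theorem ncard_setOrbit_le [Finite G] (L M : Subgroup G) (Y : Set X) (hM : ∀ g ∈ M, g • Y = Y) :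
    (setOrbit L Y).ncard ≤ M.relIndex L := by
  rw [Subgroup.relIndex, Subgroup.index, ← Nat.card_coe_set_eq]
  refine Nat.card_le_card_of_surjective
    (fun c : L ⧸ M.subgroupOf L => (⟨(c.out : G) • Y, _, c.out.2, rfl⟩ : setOrbit L Y)) ?_
  rintro ⟨Z, l, hl, rfl⟩
  refine ⟨QuotientGroup.mk ⟨l, hl⟩, Subtype.ext ?_⟩
  show ((QuotientGroup.mk (⟨l, hl⟩ : L) : L ⧸ M.subgroupOf L).out : G) • Y = l • Y
  obtain ⟨h, he⟩ := QuotientGroup.mk_out_eq_mul (M.subgroupOf L) (⟨l, hl⟩ : L)
  rw [he]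
  show (l * ((h : L) : G)) • Y = l • Y
  rw [mul_smul, hM _ (Subgroup.mem_subgroupOf.1 h.2)]

/-- The number of images through a fixed point bounds the orbit from below. -/
theorem setOrbit_count [Finite X] (L : Subgroup G) (W Y : Set X) (hW : ∀ l ∈ L, ∀ x ∈ W, l • x ∈ W)
    (htrans : ∀ x ∈ W, ∀ y ∈ W, ∃ l ∈ L, l • x = y) (hY : Y ⊆ W) {c : ℕ} {v : X} (hv : v ∈ W)
    (hc : c ≤ {Z ∈ setOrbit L Y | v ∈ Z}.ncard) :
    W.ncard * c ≤ (setOrbit L Y).ncard * Y.ncard := by
  classical
  rw [Set.ncard_eq_toFinset_card W, Set.ncard_eq_toFinset_card (setOrbit L Y)]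
  refine Finset.card_mul_le_card_mul (fun (x : X) (Z : Set X) => x ∈ Z) (fun x hx => ?_)
    fun Z hZ => ?_
  · rw [Set.Finite.mem_toFinset] at hx
    obtain ⟨l, hl, rfl⟩ := htrans v hv x hx
    refine hc.trans ?_
    rw [← Set.ncard_coe_finset]
    refine Set.ncard_le_ncard_of_injOn (fun Z => l • Z) ?_ ((MulAction.injective l).injOn)
      (Finset.finite_toSet _)
    rintro Z ⟨hZ, hvZ⟩
    simp only [Finset.coe_filter, Finset.bipartiteAbove, Set.Finite.mem_toFinset]
    exact ⟨smul_mem_setOrbit hl hZ, Set.smul_mem_smul_set hvZ⟩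
  · rw [Set.Finite.mem_toFinset] at hZ
    obtain ⟨l, hl, rfl⟩ := hZ
    rw [← Set.ncard_image_of_injective Y (MulAction.injective l), ← Set.ncard_coe_finset]
    refine Set.ncard_le_ncard ?_
    intro x hx
    simp only [Finset.coe_filter, Finset.bipartiteBelow, Set.mem_setOf_eq] at hx
    exact hx.2

/-- Powers of an element of prime order moving `Y` give that many images. -/
theorem prime_le_orbit_through [Finite X] {L : Subgroup G} {Y : Set X} {g : G} (hg : g ∈ L)
    {p : ℕ} [hp : Fact p.Prime] (hgp : g ^ p = 1) (hgY : g • Y ≠ Y) {v : X} (hv : v ∈ Y)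
    (hgv : g • v = v) : p ≤ {Z ∈ setOrbit L Y | v ∈ Z}.ncard := by
  have hpow : ∀ n : ℕ, g ^ n • v = v := by
    intro n
    induction n with
    | zero => simp
    | succ n ih => rw [pow_succ, mul_smul, hgv, ih]
  have hmod : ∀ n : ℕ, g ^ (n % p) = g ^ n := fun n => by
    conv_rhs => rw [← Nat.mod_add_div n p, pow_add, pow_mul, hgp, one_pow, mul_one]
  have hinj : Function.Injective fun i : ZMod p => g ^ i.val • Y := by
    intro i j hij
    by_contra hne
    simp only at hij
    have h2 : g ^ (j - i).val • Y = Y := by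
      apply MulAction.injective (g ^ i.val)
      show g ^ i.val • g ^ (j - i).val • Y = g ^ i.val • Y
      rw [← mul_smul, ← pow_add, ← hmod, ← ZMod.val_add, add_sub_cancel, ← hij]
    have h3 : ∀ n : ℕ, g ^ ((j - i).val * n) • Y = Y := by
      intro n
      induction n with
      | zero => simp
      | succ n ih => rw [Nat.mul_succ, pow_add, mul_smul, h2, ih]
    refine hgY ?_
    have h4 := h3 ((j - i)⁻¹).val
    rw [← hmod, ← ZMod.val_mul, mul_inv_cancel₀ (sub_ne_zero.2 (Ne.symm hne)), ZMod.val_one,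
      pow_one] at h4
    exact h4
  calc p = (Set.range fun i : ZMod p => g ^ i.val • Y).ncard := by
        rw [Set.ncard_range_of_injective hinj, Nat.card_zmod]
    _ ≤ _ := by
      refine Set.ncard_le_ncard ?_
      rintro _ ⟨i, rfl⟩
      exact ⟨⟨_, pow_mem hg _, rfl⟩, by
        rw [← hpow i.val]; exact Set.smul_mem_smul_set hv⟩

end Cfsg.Agent.InvChar68.MinIndexSp
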