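import Cfsg.Agent.InvChar68.MinIndexSp.Frame
import Mathlib.LinearAlgebra.BilinearForm.Orthogonal
import Mathlib.LinearAlgebra.Dual.Lemmas
import Mathlib.Algebra.Module.ZMod
import Mathlib.FieldTheory.Finiteness

/-!
Orthogonality of additive subgroups through a character of the additive group of the field
(helper68).
-/

set_option autoImplicit false

namespace Cfsg.Agent.InvChar68.MinIndexSp

open Cfsg Cfsg.Agent.Symplectic MulAction

variable {m : ℕ} {F : Type*} [Field F] [Fintype F] {p : ℕ} [Fact p.Prime] [CharP F p]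

local notation "ω" => Cfsg.sympForm m F

/-- A nonzero additive map to `ZMod p` killing a proper subgroup. -/
theorem exists_character (D : AddSubgroup F) (hD : D ≠ ⊤) :
    ∃ ψ : F →+ ZMod p, ψ ≠ 0 ∧ ∀ d ∈ D, ψ d = 0 := by
  letI := ZMod.algebra F p
  have hlt : AddSubgroup.toZModSubmodule p D < ⊤ := by
    rw [lt_top_iff_ne_top]
    intro h
    apply hD
    rw [← AddSubgroup.toZModSubmodule_toAddSubgroup p D, h]
    rfl
  obtain ⟨f, hf, hfD⟩ := Submodule.exists_dual_map_eq_bot_of_lt_top hlt inferInstance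
  refine ⟨f.toAddMonoidHom, fun h => hf (LinearMap.ext fun x => DFunLike.congr_fun h x),
    fun d hd => ?_⟩
  have : f d ∈ (AddSubgroup.toZModSubmodule p D).map f := ⟨d, hd, rfl⟩
  rwa [hfD, Submodule.mem_bot] at this

/-- The vectors of `perp2 u v` killed by pairing through `ψ` with `C`. -/
def annih (ψ : F →+ ZMod p) (u v : Vec m F) (C : AddSubgroup (Vec m F)) :
    AddSubgroup (Vec m F) where
  carrier := {w | w ∈ perp2 u v ∧ ∀ y ∈ C, ψ (ω w y) = 0}
  add_mem' := fun ha hb => ⟨Submodule.add_mem _ ha.1 hb.1, fun y hy => by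
    rw [sympForm_add_left, map_add, ha.2 y hy, hb.2 y hy, add_zero]⟩
  zero_mem' := ⟨Submodule.zero_mem _, fun y _ => by rw [sympForm_zero_left, map_zero]⟩
  neg_mem' := fun {a} ha => ⟨Submodule.neg_mem _ ha.1, fun y hy => by
    rw [← neg_one_smul F a, sympForm_smul_left, neg_one_mul, map_neg, ha.2 y hy, neg_zero]⟩

/-- The cardinality of the orthogonal of a subgroup for a nondegenerate pairing into `ZMod p`. -/
theorem card_orth_mul {V : Type*} [AddCommGroup V] [Finite V] [Module (ZMod p) V]
    (b : V →+ V →+ ZMod p) (hl : ∀ x, (∀ y, b x y = 0) → x = 0)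
    (hr : ∀ y, (∀ x, b x y = 0) → y = 0) (C : AddSubgroup V) :
    Nat.card {y // ∀ x ∈ C, b x y = 0} * Nat.card C = Nat.card V := by
  let B : LinearMap.BilinForm (ZMod p) V :=
    LinearMap.mk₂ (ZMod p) (fun x y => b x y)
      (fun x x' y => by simp)
      (fun c x y => ZMod.map_smul (b.flip y) c x)
      (fun x y y' => by simp)
      (fun c x y => ZMod.map_smul (b x) c y)
  have hnd : B.Nondegenerate := ⟨hl, hr⟩
  set W := AddSubgroup.toZModSubmodule p C
  have h1 : Nat.card W = Nat.card C := rfl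
  have h2 : Nat.card (B.orthogonal W) = Nat.card {y // ∀ x ∈ C, b x y = 0} :=
    Nat.card_congr (Equiv.subtypeEquivRight fun y => Iff.rfl)
  have h3 := LinearMap.BilinForm.finrank_orthogonal hnd W
  rw [← h1, ← h2, Module.natCard_eq_pow_finrank (K := ZMod p) (V := B.orthogonal W),
    Module.natCard_eq_pow_finrank (K := ZMod p) (V := W),
    Module.natCard_eq_pow_finrank (K := ZMod p) (V := V), ← pow_add, h3,
    Nat.sub_add_cancel (Submodule.finrank_le W)]

theorem card_annih_mul {ψ : F →+ ZMod p} (hψ : ψ ≠ 0) {u v : Vec m F} (hp : ω u v = 1)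
    {C : AddSubgroup (Vec m F)} (hC : C ≤ (perp2 u v).toAddSubgroup) :
    Nat.card (annih ψ u v C) * Nat.card C = Nat.card (perp2 u v) := by
  classical
  obtain ⟨f₀, hf₀⟩ : ∃ f₀, ψ f₀ ≠ 0 := by
    by_contra h
    exact hψ (AddMonoidHom.ext fun f => by
      by_contra hne
      exact h ⟨f, hne⟩)
  let b : (perp2 u v) →+ (perp2 u v) →+ ZMod p :=
    { toFun := fun x =>
        { toFun := fun y => ψ (ω x.1 y.1)
          map_zero' := by simp
          map_add' := fun y z => by
            rw [Submodule.coe_add, sympForm_add_right, map_add] }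
      map_zero' := by ext; simp
      map_add' := fun x y => by
        ext z
        simp [sympForm_add_left] }
  have key : ∀ x : perp2 u v, (∀ y : perp2 u v, ψ (ω x.1 y.1) = 0) → x = 0 := by
    intro x hx
    by_contra hne
    obtain ⟨y, hy, h1⟩ := exists_perp2_pairing hp x.2 fun h => hne (Subtype.ext h)
    refine hf₀ ?_
    have := hx ⟨f₀ • y, Submodule.smul_mem _ _ hy⟩
    rwa [sympForm_smul_right, h1, mul_one] at this
  have h := @card_orth_mul p _ (perp2 u v) _ _ (AddCommGroup.zmodModule fun x => by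
      rw [← Nat.cast_smul_eq_nsmul F, CharP.cast_eq_zero F p, zero_smul]) b key
    (fun y hy => key y fun x => by
      rw [sympForm_swap, map_neg, show ψ (ω x.1 y.1) = 0 from hy x, neg_zero])
    (C.comap (perp2 u v).subtype.toAddMonoidHom)
  have h1 : Nat.card (C.comap (perp2 u v).subtype.toAddMonoidHom) = Nat.card C :=
    Nat.card_congr
      { toFun := fun x => ⟨x.1.1, x.2⟩
        invFun := fun x => ⟨⟨x.1, hC x.2⟩, x.2⟩
        left_inv := fun x => rfl
        right_inv := fun x => rfl }
  have h2 : Nat.card {y // ∀ x ∈ C.comap (perp2 u v).subtype.toAddMonoidHom, b x y = 0} =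
      Nat.card (annih ψ u v C) :=
    Nat.card_congr
      { toFun := fun x => ⟨x.1.1, x.1.2, fun y hy => by
          rw [sympForm_swap, map_neg, show ψ (ω y x.1.1) = 0 from x.2 ⟨y, hC hy⟩ hy, neg_zero]⟩
        invFun := fun x => ⟨⟨x.1, x.2.1⟩, fun y hy => by
          show ψ (ω y.1 x.1) = 0
          rw [sympForm_swap, map_neg, x.2.2 y.1 hy, neg_zero]⟩
        left_inv := fun x => rfl
        right_inv := fun x => rfl }
  rw [h1, h2] at h
  exact h

theorem smul_mem_annih {ψ : F →+ ZMod p} {u v : Vec m F} {C : AddSubgroup (Vec m F)} {l : Sp m F}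
    (hl : l ∈ fixPair u v) (hlC : ∀ y ∈ C, l⁻¹ • y ∈ C) {w : Vec m F}
    (hw : w ∈ annih ψ u v C) : l • w ∈ annih ψ u v C :=
  ⟨fixPair_smul_mem hl hw.1, fun y hy => by
    rw [← sympForm_smul_smul l⁻¹, inv_smul_smul]
    exact hw.2 _ (hlC y hy)⟩

end Cfsg.Agent.InvChar68.MinIndexSp
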