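import Cfsg.Agent.InvChar68.MinIndexSp.Bound
import Cfsg.Agent.InvChar68.MinIndexSp.Counting
import Cfsg.Agent.InvChar68.MinIndexSp.Dual

/-!
The possible shapes of a subgroup of small index at a non-full point (helper68).
-/

set_option autoImplicit false

namespace Cfsg.Agent.InvChar68.MinIndexSp

open Cfsg Cfsg.Agent.Symplectic MulAction
open scoped Pointwise

variable {m : ℕ} {F : Type*} [Field F] [Fintype F]

local notation "ω" => Cfsg.sympForm m F

/-- The index of `H` is smaller than the number of points. -/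
def Small (H : Subgroup (Sp m F)) : Prop :=
  (Fintype.card F - 1) * H.index + 1 < Fintype.card F ^ (2 * m)

/-! ### Arithmetic -/

theorem no_small_of {q P k x : ℕ} (hk : (q - 1) * k + 1 < q ^ 2 * P) (hx : x ≤ k)
    (h : q ^ 2 * P ≤ (q - 1) * x + 1) : False := by
  have := Nat.mul_le_mul_left (q - 1) hx
  omega

theorem arith_trivial_scalar {q P r k : ℕ} (hq : 3 ≤ q) (hr : 2 ≤ r) (hr3 : q = 3 → 3 ≤ r)
    (hk : (q - 1) * k + 1 < q ^ 2 * P) : ¬ r * (q - 1) * P ≤ k := fun h => by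
  refine no_small_of hk h (le_trans ?_ (Nat.le_succ _))
  obtain ⟨a, rfl⟩ : ∃ a, q = a + 3 := ⟨q - 3, by omega⟩
  rw [show a + 3 - 1 = a + 2 by omega]
  rcases Nat.eq_zero_or_pos a with rfl | ha
  · have := hr3 rfl; nlinarith
  · nlinarith [Nat.mul_le_mul_right ((a + 2) * (a + 2) * P) hr,
      Nat.mul_le_mul_right ((2 * a + 2) * P) ha]

theorem arith_fibre_zero {q P ρ o k : ℕ} (hq : 3 ≤ q) (hρ : q ≤ 2 * ρ) (ho : 3 ≤ o)
    (hk : (q - 1) * k + 1 < q ^ 2 * P) : ¬ ρ * o * P ≤ k := fun h => by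
  refine no_small_of hk h (le_trans ?_ (Nat.le_succ _))
  obtain ⟨a, rfl⟩ : ∃ a, q = a + 3 := ⟨q - 3, by omega⟩
  rw [show a + 3 - 1 = a + 2 by omega]
  have h1 : (a + 3) * 3 * P ≤ 2 * ρ * o * P := by gcongr
  nlinarith [Nat.mul_le_mul_left (a + 2) h1, Nat.zero_le ((a + 3) * a * P)]

theorem arith_many {q P ρ c j y o k : ℕ} (hq : 3 ≤ q) (hP : q ^ 2 ≤ P) (hρc : 3 * q ≤ 2 * (ρ * c))
    (hρc3 : q = 3 → 9 ≤ ρ * c) (hy : 2 ≤ y) (hj : y ≤ j)
    (ho : (P - 1) * c ≤ o * (y - 1)) (hk : (q - 1) * k + 1 < q ^ 2 * P) :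
    ¬ ρ * j * o ≤ k := fun h => by
  have h1 : ρ * c * (P - 1) ≤ k := by
    refine le_trans ?_ h
    refine Nat.le_of_mul_le_mul_right ?_ (show 0 < y - 1 by omega)
    calc ρ * c * (P - 1) * (y - 1) ≤ ρ * c * (P - 1) * j := by gcongr; omega
      _ = ρ * j * ((P - 1) * c) := by ring
      _ ≤ ρ * j * (o * (y - 1)) := by gcongr
      _ = ρ * j * o * (y - 1) := by ring
  refine no_small_of hk h1 ?_
  obtain ⟨a, rfl⟩ : ∃ a, q = a + 3 := ⟨q - 3, by omega⟩
  obtain ⟨b, rfl⟩ : ∃ b, P = b + 1 := ⟨P - 1, by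
    have : 1 ≤ P := le_trans (Nat.one_le_pow _ _ (by omega)) hP
    omega⟩
  rw [show a + 3 - 1 = a + 2 by omega, Nat.add_sub_cancel]
  rcases Nat.eq_zero_or_pos a with rfl | ha
  · have := hρc3 rfl; nlinarith
  · nlinarith [Nat.mul_le_mul_right ((a + 2) * b) hρc,
      Nat.mul_le_mul_right ((a + 3) * b) ha, Nat.mul_le_mul_left (a + 3) hP]

theorem arith_line_small {q P p ρ j y o k : ℕ} (hq : 3 ≤ q) (hP : q ^ 2 ≤ P)
    (hρp : 3 * q ≤ 2 * (ρ * p)) (hjy : j * y = P) (hy : p * y ≤ q)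
    (ho : P - 1 ≤ o * (q - 1)) (hk : (q - 1) * k + 1 < q ^ 2 * P) :
    ¬ ρ * j * o ≤ k := fun h => by
  refine no_small_of hk h (le_trans ?_ (Nat.le_succ _))
  refine Nat.le_of_mul_le_mul_left ?_ (show 0 < 2 * q by omega)
  obtain ⟨b, rfl⟩ : ∃ b, P = b + 1 := ⟨P - 1, by
    have : 1 ≤ P := le_trans (Nat.one_le_pow _ _ (by omega)) hP
    omega⟩
  rw [Nat.add_sub_cancel] at ho
  have hb : 2 * q ^ 2 ≤ 3 * b := by nlinarith
  calc 2 * q * (q ^ 2 * (b + 1)) = (2 * q ^ 2) * q * (b + 1) := by ring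
    _ ≤ 3 * b * q * (b + 1) := by gcongr
    _ = 3 * q * (b + 1) * b := by ring
    _ ≤ 2 * (ρ * p) * (b + 1) * (o * (q - 1)) := by gcongr
    _ = 2 * ((q - 1) * (ρ * j * o)) * (p * y) := by rw [← hjy]; ring
    _ ≤ 2 * ((q - 1) * (ρ * j * o)) * q := by gcongr
    _ = 2 * q * ((q - 1) * (ρ * j * o)) := by ring

theorem arith_line_big {q P ρ y o k : ℕ} (hq : 3 ≤ q) (hP : q ^ 2 ≤ P)
    (hρ : q ≤ ρ) (hy : 2 ≤ y) (hy2 : 2 * y ≤ q)
    (ho : P - 1 ≤ o * (y - 1)) (hk : (q - 1) * k + 1 < q ^ 2 * P) :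
    ¬ ρ * y * o ≤ k := fun h => by
  obtain ⟨z, rfl⟩ : ∃ z, y = z + 2 := ⟨y - 2, by omega⟩
  obtain ⟨a, rfl⟩ : ∃ a, q = 2 * (z + 2) + a := ⟨q - 2 * (z + 2), by omega⟩
  obtain ⟨b, rfl⟩ : ∃ b, P = b + 1 := ⟨P - 1, by
    have : 1 ≤ P := le_trans (Nat.one_le_pow _ _ (by omega)) hP
    omega⟩
  rw [show z + 2 - 1 = z + 1 by omega, Nat.add_sub_cancel] at ho
  rw [show 2 * (z + 2) + a - 1 = 2 * z + 3 + a by omega] at hk
  have h1 : (2 * (z + 2) + a) * (z + 2) * b ≤ (z + 1) * k := by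
    calc (2 * (z + 2) + a) * (z + 2) * b ≤ ρ * (z + 2) * (o * (z + 1)) := by gcongr
      _ = (z + 1) * (ρ * (z + 2) * o) := by ring
      _ ≤ (z + 1) * k := by gcongr
  nlinarith [Nat.mul_le_mul_left (2 * z + 3 + a) h1, Nat.mul_le_mul_left (z + 1) hk,
    Nat.mul_le_mul_left (z + 1) hP, Nat.zero_le (z * a), Nat.zero_le (a * b)]

theorem arith_full_line_small {q P ρ j o k : ℕ} (hq : 3 ≤ q) (hP : q ^ 4 ≤ P) (hρ : q ≤ 2 * ρ)
    (hj : j * q = P) (ho : P - 1 ≤ o * (q - 1)) (hk : (q - 1) * k + 1 < q ^ 2 * P) :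
    ¬ ρ * j * o ≤ k := fun h => by
  refine no_small_of hk h (le_trans ?_ (Nat.le_succ _))
  refine Nat.le_of_mul_le_mul_left ?_ (show 0 < 2 * q by omega)
  obtain ⟨b, rfl⟩ : ∃ b, P = b + 1 := ⟨P - 1, by
    have : 1 ≤ P := le_trans (Nat.one_le_pow _ _ (by omega)) hP
    omega⟩
  rw [Nat.add_sub_cancel] at ho
  have hb : 2 * q ^ 2 ≤ b := by nlinarith [Nat.mul_le_mul_left (q ^ 2) (Nat.pow_le_pow_left hq 2)]
  calc 2 * q * (q ^ 2 * (b + 1)) = (2 * q ^ 2) * q * (b + 1) := by ring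
    _ ≤ b * (2 * ρ) * (b + 1) := by gcongr
    _ ≤ o * (q - 1) * (2 * ρ) * (b + 1) := by gcongr
    _ = 2 * ((q - 1) * (ρ * j * o)) * q := by rw [← hj]; ring
    _ = 2 * q * ((q - 1) * (ρ * j * o)) := by ring

theorem arith_perp {q P ρ t o k : ℕ} (hq : 3 ≤ q) (hP : q ^ 2 ≤ P) (hρ : q ≤ ρ) (ht : 2 ≤ t)
    (ho : P - 1 ≤ o * (q - 1)) (hk : (q - 1) * k + 1 < q ^ 2 * P) :
    ¬ ρ * q * (t * o) ≤ k := fun h => by
  refine no_small_of hk h (le_trans ?_ (Nat.le_succ _))
  obtain ⟨b, rfl⟩ : ∃ b, P = b + 1 := ⟨P - 1, by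
    have : 1 ≤ P := le_trans (Nat.one_le_pow _ _ (by omega)) hP
    omega⟩
  rw [Nat.add_sub_cancel] at ho
  have hb : 1 ≤ b := by
    have : 9 ≤ q ^ 2 := by nlinarith
    omega
  calc q ^ 2 * (b + 1) ≤ q * q * (2 * b) := by
        rw [sq]; exact Nat.mul_le_mul_left _ (by omega)
    _ ≤ ρ * q * (t * (o * (q - 1))) := by gcongr
    _ = (q - 1) * (ρ * q * (t * o)) := by ring

theorem arith_sp4_line {q ρ t o k : ℕ} (hq : 3 ≤ q) (ho : q ^ 2 - 1 ≤ o * (q - 1))
    (hk : (q - 1) * k + 1 < q ^ 2 * q ^ 2) (h : ρ * q * (t * o) ≤ k) : ρ * t ≤ q := by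
  by_contra hlt
  obtain ⟨a, rfl⟩ : ∃ a, q = a + 1 := ⟨q - 1, by omega⟩
  rw [Nat.add_sub_cancel] at ho hk
  have hsq : (a + 1) ^ 2 - 1 = a * (a + 2) := by
    have : (a + 1) ^ 2 = a * (a + 2) + 1 := by ring
    omega
  rw [hsq] at ho
  have ho' : a + 2 ≤ o := Nat.le_of_mul_le_mul_right (by rwa [mul_comm] at ho) (by omega)
  have h1 : (a + 2) * (a + 1) * (a + 2) ≤ k := by
    refine le_trans ?_ h
    calc (a + 2) * (a + 1) * (a + 2) ≤ ρ * t * (a + 1) * o := by gcongr; omega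
      _ = ρ * (a + 1) * (t * o) := by ring
  nlinarith [Nat.mul_le_mul_left a h1]

/-! ### Invariant subgroups -/

theorem smul_set_eq_of_subset {X : Type*} [Finite X] {G : Type*} [Group G] [MulAction G X]
    {g : G} {Y : Set X} (h : ∀ y ∈ Y, g • y ∈ Y) : g • Y = Y := by
  refine Set.eq_of_subset_of_ncard_le ?_ ?_
  · rintro _ ⟨y, hy, rfl⟩
    exact h y hy
  · rw [← Set.ncard_image_of_injective Y (MulAction.injective g)]
    exact le_refl _

theorem card_perp_line {u v x : Vec m F} (hp : ω u v = 1) (hx : x ∈ perp2 u v) (hx0 : x ≠ 0) :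
    {y : Vec m F | y ∈ perp2 u v ∧ ω x y = 0}.ncard * Fintype.card F =
      Nat.card (perp2 u v) := by
  set φ : perp2 u v →+ F :=
    { toFun := fun y => ω x y.1
      map_zero' := sympForm_zero_right x
      map_add' := fun a b => sympForm_add_right x a.1 b.1 }
  obtain ⟨y₁, hy₁, h1⟩ := exists_perp2_pairing hp hx hx0
  have hsurj : Function.Surjective φ := fun c =>
    ⟨⟨c • y₁, Submodule.smul_mem _ _ hy₁⟩, by
      show ω x (c • y₁) = c
      rw [sympForm_smul_right, h1, mul_one]⟩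
  have h := φ.ker.card_mul_index
  rw [AddSubgroup.index_ker, AddMonoidHom.range_eq_top.2 hsurj, AddSubgroup.card_top,
    Nat.card_eq_fintype_card (α := F)] at h
  rw [← h, ← Nat.card_coe_set_eq]
  congr 1
  exact Nat.card_congr
    { toFun := fun y => ⟨⟨y.1, y.2.1⟩, y.2.2⟩
      invFun := fun y => ⟨y.1.1, y.1.2, y.2⟩
      left_inv := fun _ => rfl
      right_inv := fun _ => rfl }

/-- A subgroup fixed by every transvection at `x` orthogonal to one of its vectors `x`. -/
theorem subset_line {u v x : Vec m F} (hm : 2 ≤ m) (hp : ω u v = 1)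
    {Y : AddSubgroup (Vec m F)} (hY : Y ≤ (perp2 u v).toAddSubgroup)
    (hsq : Nat.card Y * Nat.card Y ≤ Nat.card (perp2 u v)) (hx : x ∈ Y) (hx0 : x ≠ 0)
    (hfix : ∀ z ∈ perp2 u v, ω x z = 0 → ∀ s : F, ∀ y ∈ Y, tv z s • y ∈ Y) :
    ∀ y ∈ Y, ∃ c : F, y = c • x := by
  by_contra hcon
  obtain ⟨y₀, hy₀, hne⟩ : ∃ y₀ ∈ Y, ∀ c : F, y₀ ≠ c • x := by
    by_contra h
    exact hcon fun y hy => by
      by_contra hn
      exact h ⟨y, hy, fun c hc => hn ⟨c, hc⟩⟩
  obtain ⟨z₀, hz₀, hxz, hyz⟩ := exists_perp2_separating hp (hY hx) hx0 (hY hy₀) hne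
  have hin : ∀ z ∈ perp2 u v, ω x z = 0 → ω y₀ z ≠ 0 → z ∈ Y := fun z hz hxz hyz => by
    have h1 := hfix z hz hxz (ω y₀ z)⁻¹ y₀ hy₀
    rw [tv_smul, inv_mul_cancel₀ hyz, one_smul] at h1
    have h2 := Y.sub_mem h1 hy₀
    rwa [add_sub_cancel_left] at h2
  have hsub : ∀ z ∈ perp2 u v, ω x z = 0 → z ∈ Y := fun z hz h => by
    by_cases hyz' : ω y₀ z = 0
    · have h2 := Y.sub_mem (hin (z + z₀) (Submodule.add_mem _ hz hz₀)
        (by rw [sympForm_add_right, h, hxz, add_zero])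
        (by rwa [sympForm_add_right, hyz', zero_add])) (hin z₀ hz₀ hxz hyz)
      rwa [add_sub_cancel_right] at h2
    · exact hin z hz h hyz'
  have hP := card_perp_line hp (hY hx) hx0
  have h1 : {y : Vec m F | y ∈ perp2 u v ∧ ω x y = 0}.ncard ≤ Nat.card Y := by
    rw [← Nat.card_coe_set_eq]
    exact Nat.card_le_card_of_injective (fun y => (⟨y.1, hsub _ y.2.1 y.2.2⟩ : Y))
      fun a b h => Subtype.ext (congrArg Subtype.val h :)
  have hQ : Fintype.card F ≤ Nat.card Y := by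
    rw [← Nat.card_eq_fintype_card]
    exact Nat.card_le_card_of_injective
      (fun c : F => (⟨c • x, hsub _ (Submodule.smul_mem _ _ (hY hx))
        (by rw [sympForm_smul_right, sympForm_self, mul_zero])⟩ : Y))
      fun a b h => smul_left_injective F hx0 (congrArg Subtype.val h :)
  have hq2 : Fintype.card F ^ 2 ≤ Nat.card (perp2 u v) := by
    rw [card_perp2 hp (by omega)]
    exact Nat.pow_le_pow_right Fintype.card_pos (by omega)
  have h2 : Nat.card (perp2 u v) ≤ Nat.card Y * Fintype.card F :=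
    hP ▸ Nat.mul_le_mul_right _ h1
  have h3 : Nat.card Y ≤ Fintype.card F := by
    by_contra h
    rw [not_le] at h
    have := Nat.mul_lt_mul_of_pos_left h (show 0 < Nat.card Y from Nat.card_pos)
    omega
  have hsurj := Nat.bijective_iff_injective_and_card
    (fun c : F => (⟨c • x, hsub _ (Submodule.smul_mem _ _ (hY hx))
      (by rw [sympForm_smul_right, sympForm_self, mul_zero])⟩ : Y)) |>.2
    ⟨fun a b h => smul_left_injective F hx0 (congrArg Subtype.val h :),
      by rw [Nat.card_eq_fintype_card (α := F)]; omega⟩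
  obtain ⟨c, hc⟩ := hsurj.2 ⟨y₀, hy₀⟩
  exact hne c (congrArg Subtype.val hc).symm

/-- The stabiliser of a set inside the fixer of the pair. -/
def setStab (u v : Vec m F) (Y : Set (Vec m F)) : Subgroup (Sp m F) :=
  fixPair u v ⊓ stabilizer (Sp m F) Y

/-- An `M`-invariant subgroup: its orbit bounds the index of `M`. -/
theorem orbit_bound {u v : Vec m F} (hm : 1 ≤ m) (hp : ω u v = 1) {Y : AddSubgroup (Vec m F)}
    (hY : Y ≤ (perp2 u v).toAddSubgroup) {c : ℕ} {x : Vec m F} (hx : x ∈ Y) (hx0 : x ≠ 0)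
    (hc : c ≤ {Z ∈ setOrbit (fixPair u v) ((Y : Set (Vec m F)) \ {0}) | x ∈ Z}.ncard) :
    (Nat.card (perp2 u v) - 1) * c ≤
      (setStab u v ((Y : Set (Vec m F)) \ {0})).relIndex (fixPair u v) * (Nat.card Y - 1) := by
  have hW : ∀ (S : AddSubgroup (Vec m F)), ((S : Set (Vec m F)) \ {0}).ncard = Nat.card S - 1 :=
    fun S => by
      rw [Set.ncard_sdiff_singleton_of_mem S.zero_mem, ← Nat.card_coe_set_eq]
      rfl
  have h := setOrbit_count (fixPair u v) (((perp2 u v).toAddSubgroup : Set (Vec m F)) \ {0})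
    ((Y : Set (Vec m F)) \ {0})
    (fun l hl y hy => ⟨fixPair_smul_mem hl hy.1, smul_ne_zero_of_ne_zero l hy.2⟩)
    (fun y hy z hz => exists_fixPair_smul hm hp hy.1 hz.1 hy.2 hz.2)
    (Set.sdiff_subset_sdiff_left hY) ⟨hY hx, hx0⟩ hc
  rw [hW, hW] at h
  exact h.trans (Nat.mul_le_mul_right _
    (ncard_setOrbit_le _ _ _ fun g hg => hg.2))

theorem relIndex_split {u v : Vec m F} {H : Subgroup (Sp m F)} {Y : Set (Vec m F)}
    (h : ∀ l ∈ M0 H u v, l • Y = Y) :
    (M0 H u v).relIndex (setStab u v Y) * (setStab u v Y).relIndex (fixPair u v) =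
      (M0 H u v).relIndex (fixPair u v) :=
  Subgroup.relIndex_mul_relIndex _ _ _ (fun l hl => ⟨hl.1, h l hl⟩) inf_le_left

/-- The shapes at a non-full point. -/
inductive Shape (H : Subgroup (Sp m F)) (u v : Vec m F) : Prop
  | torus (hC : Cb H u v = ⊥) (hM : fixPair u v ≤ M0 H u v) (a : Fˣ) (ha : a ∈ Scal H u v)
      (ha1 : a ≠ 1)
  | big (h2 : (2 : F) = 0) (hC : ∀ w ∈ perp2 u v, w ∈ Cb H u v)
  | perp (h2 : (2 : F) = 0) (x : Vec m F) (hx : x ∈ perp2 u v) (hx0 : x ≠ 0)
      (hC : ∀ w ∈ perp2 u v, ω x w = 0 → w ∈ Cb H u v)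
      (hM : ∀ z ∈ perp2 u v, ω x z = 0 → ∀ s : F, tv z s ∈ M0 H u v) (hm : 3 ≤ m)
  | line (hm : m = 2) (x : Vec m F) (hx : x ∈ perp2 u v) (hx0 : x ≠ 0)
      (hC : ∀ w, w ∈ Cb H u v ↔ ∃ c : F, w = c • x)
      (hM : ∀ l ∈ M0 H u v, l • (((Submodule.span F {x} : Submodule F (Vec m F)) : Set (Vec m F)) \ {0})
        = ((Submodule.span F {x} : Submodule F (Vec m F)) : Set (Vec m F)) \ {0})
      (ht : (Dg H u).index * (Scal H u v).index *
        (M0 H u v).relIndex (setStab u v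
          (((Submodule.span F {x} : Submodule F (Vec m F)) : Set (Vec m F)) \ {0})) ≤
            Fintype.card F)

theorem shape {H : Subgroup (Sp m F)} {u v : Vec m F} (hm : 2 ≤ m) (hq : 3 ≤ Fintype.card F)
    (hexc : ¬ (m = 2 ∧ Fintype.card F = 3)) (hp : ω u v = 1) (hk : Small H)
    (hD : Dg H u ≠ ⊤) : Shape H u v := by
  classical
  obtain ⟨pp, hchar⟩ := CharP.exists F
  haveI : Fact pp.Prime := ⟨CharP.char_is_prime F pp⟩
  set q := Fintype.card F with hqdef
  set P := Nat.card (perp2 u v) with hPdef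
  set r := (Dg H u).index with hr
  set e := (Scal H u v).index with he
  set j := (Cb H u v).relIndex (perp2 u v).toAddSubgroup with hjdef
  set o := (M0 H u v).relIndex (fixPair u v) with ho
  have hPq : P = q ^ (2 * (m - 1)) := card_perp2 hp (by omega)
  have hk' : (q - 1) * H.index + 1 < q ^ 2 * P := by
    rw [hPq, ← pow_add, show 2 + 2 * (m - 1) = 2 * m by omega]
    exact hk
  have hP2 : q ^ 2 ≤ P := hPq ▸ Nat.pow_le_pow_right (by omega) (by omega)
  obtain ⟨hρ, hρ2⟩ := rho_bound H (v := v) hD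
  have hb : r * e * j * o ≤ H.index := by
    refine le_trans (le_of_eq ?_) (key_bound H hp)
    rw [hr, he, hjdef, ho]; ring
  have hjC : j * Nat.card (Cb H u v) = P := by
    rw [hjdef, AddSubgroup.relIndex, mul_comm]
    have h := ((Cb H u v).addSubgroupOf (perp2 u v).toAddSubgroup).card_mul_index
    rwa [Nat.card_congr (AddSubgroup.addSubgroupOfEquivOfLe (Cb_le H u v)).toEquiv] at h
  have hpr : pp ≤ r := prime_le_index (p := pp) hD
  have he0 : 1 ≤ e := Nat.pos_of_ne_zero Subgroup.index_ne_zero_of_finite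
  have hpρ : pp ≤ r * e := le_trans hpr (Nat.le_mul_of_pos_right _ he0)
  have hpp : 2 ≤ pp := (Fact.out : pp.Prime).two_le
  have hq3 : q = 3 → pp = 3 := fun h => by
    obtain ⟨n, hnp, hn⟩ := FiniteField.card F pp
    rw [← hqdef, h] at hn
    exact ((Nat.prime_dvd_prime_iff_eq hnp Nat.prime_three).1 (hn ▸ dvd_pow_self pp n.ne_zero))
  have h2c : pp = 2 → (2 : F) = 0 := fun h => by
    subst h
    exact_mod_cast CharP.cast_eq_zero F 2
  have hρp : 3 * q ≤ 2 * (r * e * pp) := by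
    rcases eq_or_lt_of_le hpp with h | h
    · have := hρ2 (h2c h.symm)
      rw [← h]; nlinarith
    · nlinarith [Nat.mul_le_mul_left (r * e) (show 3 ≤ pp by omega)]
  have hρp3 : q = 3 → 9 ≤ r * e * pp := fun h => by
    have h3 := hq3 h
    have h4 : 3 ≤ r * e := h3 ▸ hpρ
    calc 9 = 3 * 3 := rfl
      _ ≤ r * e * pp := Nat.mul_le_mul h4 h3.ge
  by_cases hC0 : Cb H u v = ⊥
  · -- no image
    have hj : j = P := by
      rw [hC0, AddSubgroup.card_bot, mul_one] at hjC
      exact hjC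
    by_cases hM : fixPair u v ≤ M0 H u v
    · by_cases hS : ∃ a ∈ Scal H u v, a ≠ 1
      · obtain ⟨a, ha, ha1⟩ := hS
        exact .torus hC0 hM a ha ha1
      · exfalso
        have he' : e = q - 1 := by
          have hbot : Scal H u v = ⊥ := by
            rw [Subgroup.eq_bot_iff_forall]
            intro a ha
            by_contra h
            exact hS ⟨a, ha, h⟩
          rw [he, hbot, Subgroup.index_bot, Nat.card_units, Nat.card_eq_fintype_card]
        have ho1 : o = 1 := Subgroup.relIndex_eq_one.2 hM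
        rw [hj, ho1, mul_one, he'] at hb
        exact arith_trivial_scalar hq (hpp.trans hpr) (fun h => hq3 h ▸ hpr) hk' hb
    · exfalso
      have ho3 : 3 ≤ o := by
        by_contra hlt
        have ho0 : o ≠ 0 := Subgroup.index_ne_zero_of_finite
        have ho2 : o ≠ 1 := fun h => hM (Subgroup.relIndex_eq_one.1 h)
        have h2 : ((M0 H u v).subgroupOf (fixPair u v)).index = 2 := by
          have : o = 2 := by omega
          rw [← this]; rfl
        refine hM ?_
        have hn := Subgroup.normal_of_index_eq_two h2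
        have hab : ⁅(⊤ : Subgroup (fixPair u v)), ⊤⁆ ≤ (M0 H u v).subgroupOf (fixPair u v) := by
          rw [Subgroup.commutator_le]
          intro a _ b _
          have hma := Subgroup.mul_mem_iff_of_index_two h2 (a := a) (b := b)
          rw [commutatorElement_def]
          by_cases ha : a ∈ (M0 H u v).subgroupOf (fixPair u v)
          · rw [mul_assoc, mul_assoc]
            exact mul_mem ha (by
              rw [← mul_assoc]
              exact hn.conj_mem _ (inv_mem ha) b)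
          · simp only [Subgroup.mul_mem_iff_of_index_two h2, inv_mem_iff]
            tauto
        intro l hl
        rw [← fixPair_perfect hm hq hexc hp] at hl
        have h3 : ⁅fixPair u v, fixPair u v⁆ ≤
            ((M0 H u v).subgroupOf (fixPair u v)).map (fixPair u v).subtype := by
          refine le_trans ?_ (Subgroup.map_mono hab)
          rw [Subgroup.map_commutator, ← MonoidHom.range_eq_map, Subgroup.range_subtype]
        obtain ⟨l', hl', rfl⟩ := h3 hl
        exact hl'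
      rw [hj] at hb
      refine arith_fibre_zero (ρ := r * e) hq hρ ho3 hk' ?_
      exact le_trans (le_of_eq (by ring)) hb
  by_cases hCW : ∀ w ∈ perp2 u v, w ∈ Cb H u v
  · refine .big ?_ hCW
    by_contra h2
    refine hD ((AddSubgroup.eq_top_iff' _).2 fun t => ?_)
    have hfin : ∃ x ∈ perp2 u v, x ≠ 0 := by
      by_contra h
      refine hC0 ((AddSubgroup.eq_bot_iff_forall _).2 fun w hw => ?_)
      by_contra hw0
      exact h ⟨w, hw.1, hw0⟩
    obtain ⟨x, hx, hx0⟩ := hfin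
    obtain ⟨y, hy, hxy⟩ := exists_perp2_pairing hp hx hx0
    have := two_mul_form_mem (hCW _ (Submodule.smul_mem _ (t / 2) hx)) (hCW y hy)
    rwa [sympForm_smul_left, hxy, mul_one, mul_div_cancel₀ t h2] at this
  -- a proper nonzero image
  obtain ⟨ψ, hψ, hψD⟩ := exists_character (p := pp) (Dg H u) hD
  set A := annih ψ u v (Cb H u v) with hAdef
  have hAC : Nat.card A * Nat.card (Cb H u v) = P := card_annih_mul hψ hp (Cb_le H u v)
  have hjA : j = Nat.card A :=
    Nat.eq_of_mul_eq_mul_right Nat.card_pos (hjC.trans hAC.symm)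
  have hC1 : 2 ≤ Nat.card (Cb H u v) := by
    have := (AddSubgroup.one_lt_card_iff_ne_bot _).2 hC0
    omega
  have hA1 : 2 ≤ Nat.card A := by
    by_contra h
    refine hCW fun w hw => ?_
    have h1 : j = 1 := by
      have : Nat.card A ≠ 0 := Nat.card_pos.ne'
      omega
    exact AddSubgroup.relIndex_eq_one.1 (hjdef ▸ h1) hw
  have hodd : (2 : F) ≠ 0 → Nat.card (Cb H u v) ≤ Nat.card A := fun h2 => by
    refine Nat.card_le_card_of_injective (fun w : Cb H u v => (⟨w.1, w.2.1, fun y hy => ?_⟩ : A))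
      fun a b h => Subtype.ext (congrArg Subtype.val h :)
    have := hψD _ (two_mul_form_mem (v := v) w.2 hy)
    rw [two_mul, map_add, ← two_mul] at this
    refine (mul_eq_zero.1 this).resolve_left fun h => h2 ?_
    have hdvd : pp ∣ 2 := (ZMod.natCast_eq_zero_iff 2 pp).1 (by exact_mod_cast h)
    exact h2c (Nat.le_antisymm (Nat.le_of_dvd two_pos hdvd) hpp)
  -- the smaller of the two invariant subgroups
  obtain ⟨Y, hYC, hYsq, hY2⟩ : ∃ Y : AddSubgroup (Vec m F), ((Y = Cb H u v) ∨ (Y = A ∧ (2 : F) = 0)) ∧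
      Nat.card Y * Nat.card Y ≤ P ∧ 2 ≤ Nat.card Y := by
    by_cases hle : Nat.card (Cb H u v) ≤ Nat.card A
    · exact ⟨_, Or.inl rfl, hAC ▸ Nat.mul_le_mul_right _ hle, hC1⟩
    · exact ⟨A, Or.inr ⟨rfl, by_contra fun h => hle (hodd h)⟩,
        hAC ▸ Nat.mul_le_mul_left _ (by omega), hA1⟩
  have hYW : Y ≤ (perp2 u v).toAddSubgroup := by
    rcases hYC with rfl | ⟨rfl, -⟩
    · exact Cb_le H u v
    · exact fun w hw => hw.1
  have hinv : ∀ l ∈ M0 H u v, l • ((Y : Set (Vec m F)) \ {0}) = (Y : Set (Vec m F)) \ {0} := by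
    intro l hl
    refine smul_set_eq_of_subset fun y hy => ⟨?_, smul_ne_zero_of_ne_zero l hy.2⟩
    rcases hYC with rfl | ⟨rfl, -⟩
    · exact M0_smul hl hy.1
    · exact smul_mem_annih hl.1 (fun z hz => M0_smul ((M0 H u v).inv_mem hl) hz) hy.1
  have hyj : Nat.card Y ≤ j := by
    rcases hYC with rfl | ⟨rfl, -⟩
    · refine Nat.le_of_mul_le_mul_right ?_ (show 0 < Nat.card (Cb H u v) from Nat.card_pos)
      rwa [hjC]
    · exact hjA.ge
  have hsplit := relIndex_split hinv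
  set t := (M0 H u v).relIndex (setStab u v ((Y : Set (Vec m F)) \ {0}))
  set o' := (setStab u v ((Y : Set (Vec m F)) \ {0})).relIndex (fixPair u v)
  have ht0 : 1 ≤ t := Nat.pos_of_ne_zero Subgroup.index_ne_zero_of_finite
  have hoo : o' ≤ o := by rw [ho, ← hsplit]; exact Nat.le_mul_of_pos_left _ ht0
  by_cases hmove : ∃ x ∈ Y, x ≠ 0 ∧ ∃ z ∈ perp2 u v, ω x z = 0 ∧
      ∃ s : F, ∃ y ∈ Y, tv z s • y ∉ Y
  · exfalso
    obtain ⟨x, hx, hx0, z, hz, hxz, s, y, hy, hyY⟩ := hmove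
    have hy0 : y ≠ 0 := by
      rintro rfl
      exact hyY (by rw [smul_zero]; exact Y.zero_mem)
    have hgp : tv z s ^ pp = 1 := by
      have : ∀ n : ℕ, tv z s ^ n = tv z ((n : F) * s) := by
        intro n
        induction n with
        | zero => simp
        | succ n ih => rw [pow_succ, ih, tv_mul_tv, Nat.cast_succ, add_one_mul]
      rw [this, CharP.cast_eq_zero, zero_mul, tv_zero]
    have hc := prime_le_orbit_through (L := fixPair u v) (Y := (Y : Set (Vec m F)) \ {0})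
      (tv_mem_fixPair hz s) hgp (fun h => hyY (by
        have : tv z s • y ∈ (Y : Set (Vec m F)) \ {0} :=
          h ▸ Set.smul_mem_smul_set (s := (Y : Set (Vec m F)) \ {0}) ⟨hy, hy0⟩
        exact this.1)) (v := x) ⟨hx, hx0⟩ (tv_smul_of_orth s hxz)
    have hbd := orbit_bound (by omega) hp hYW hx hx0 hc
    refine arith_many hq hP2 (ρ := r * e) (c := pp) hρp hρp3 hY2 hyj ?_ hk' hb
    exact hbd.trans (Nat.mul_le_mul_right _ hoo)
  -- the line case
  obtain ⟨⟨x, hx⟩, hx0⟩ : ∃ x : Y, x ≠ 0 :=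
    haveI : Nontrivial Y := Finite.one_lt_card_iff_nontrivial.1 (by omega)
    exists_ne 0
  have hx0' : x ≠ 0 := fun h => hx0 (Subtype.ext h)
  have hline := subset_line hm hp hYW hYsq hx hx0' fun z hz hxz s y hy =>
    by_contra fun h => hmove ⟨x, hx, hx0', z, hz, hxz, s, y, hy, h⟩
  have hbd := orbit_bound (c := 1) (by omega) hp hYW hx hx0' (by
    refine Nat.one_le_iff_ne_zero.2 fun h => ?_
    rw [Set.ncard_eq_zero] at h
    exact Set.eq_empty_iff_forall_notMem.1 h _ ⟨self_mem_setOrbit _ _, hx, hx0'⟩)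
  rw [mul_one] at hbd
  have hyq : Nat.card Y ≤ q := by
    rw [hqdef, ← Nat.card_eq_fintype_card]
    refine Nat.card_le_card_of_injective (fun y : Y => (hline y y.2).choose) fun a b h => ?_
    refine Subtype.ext ?_
    simp only at h
    rw [(hline a a.2).choose_spec, (hline b b.2).choose_spec, h]
  rcases lt_or_eq_of_le hyq with hylt | hyeq
  · exfalso
    -- a proper subgroup of a line
    have hpy : pp * Nat.card Y ≤ q := by
      let f : F →+ Vec m F :=
        { toFun := fun c => c • x, map_zero' := zero_smul F x, map_add' := fun a b => add_smul a b x }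
      have hf : Nat.card (Y.comap f) = Nat.card Y := by
        refine Nat.card_congr (Equiv.ofBijective (fun c => (⟨c.1 • x, c.2⟩ : Y)) ⟨?_, ?_⟩)
        · exact fun a b h => Subtype.ext (smul_left_injective F hx0' (congrArg Subtype.val h :))
        · exact fun y => ⟨⟨(hline y y.2).choose, by
            show (hline y y.2).choose • x ∈ Y
            rw [← (hline y y.2).choose_spec]; exact y.2⟩,
              Subtype.ext (hline y y.2).choose_spec.symm⟩
      have hne : Y.comap f ≠ ⊤ := fun h => by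
        rw [h, AddSubgroup.card_top, Nat.card_eq_fintype_card] at hf
        omega
      have h := (Y.comap f).card_mul_index
      rw [hf, Nat.card_eq_fintype_card (α := F), ← hqdef] at h
      rw [← h, mul_comm]
      exact Nat.mul_le_mul_left _ (prime_le_index hne)
    have ho1 : P - 1 ≤ o * (q - 1) :=
      hbd.trans (Nat.mul_le_mul hoo (by omega))
    rcases hYC with rfl | ⟨rfl, h2⟩
    · exact arith_line_small hq hP2 hρp hjC hpy ho1 hk' hb
    · rw [hjA] at hb
      exact arith_line_big hq hP2 (hρ2 h2) hY2 (le_trans (Nat.mul_le_mul_right _ hpp) hpy)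
        (hbd.trans (Nat.mul_le_mul_right _ hoo)) hk' hb
  have hspan : (Y : Set (Vec m F)) = (Submodule.span F {x} : Submodule F (Vec m F)) := by
    refine Set.eq_of_subset_of_ncard_le (fun y hy => ?_) ?_
    · obtain ⟨c, hc⟩ := hline y hy
      exact Submodule.mem_span_singleton.2 ⟨c, hc.symm⟩
    · rw [← Nat.card_coe_set_eq, ← Nat.card_coe_set_eq]
      show Nat.card (Submodule.span F {x} : Submodule F (Vec m F)) ≤ Nat.card Y
      rw [hyeq, hqdef, ← Nat.card_eq_fintype_card]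
      refine Nat.card_le_card_of_surjective (fun c : F =>
        (⟨c • x, Submodule.smul_mem _ _ (Submodule.mem_span_singleton_self x)⟩ :
          (Submodule.span F {x} : Submodule F (Vec m F)))) ?_
      rintro ⟨y, hy⟩
      obtain ⟨c, rfl⟩ := Submodule.mem_span_singleton.1 hy
      exact ⟨c, rfl⟩
  have hmem : ∀ c : F, c • x ∈ Y := fun c => by
    rw [← SetLike.mem_coe, hspan]
    exact Submodule.smul_mem _ _ (Submodule.mem_span_singleton_self x)
  have hcardperp := card_perp_line hp (hYW hx) hx0'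
  -- the image is the orthogonal of the line or the line itself
  have hC : (Y = Cb H u v ∧ j * q = P) ∨ ((2 : F) = 0 ∧ j = q ∧
      ∀ w ∈ perp2 u v, (w ∈ Cb H u v ↔ ω x w = 0)) := by
    rcases hYC with rfl | ⟨rfl, h2⟩
    · exact Or.inl ⟨rfl, hyeq ▸ hjC⟩
    · refine Or.inr ⟨h2, hjA.trans hyeq, ?_⟩
      have hsub : (Cb H u v : Set (Vec m F)) ⊆ {y | y ∈ perp2 u v ∧ ω x y = 0} := fun w hw => by
        refine ⟨hw.1, by_contra fun hne => hψ (AddMonoidHom.ext fun f => ?_)⟩
        have := (hmem (f / ω x w)).2 w hw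
        rwa [sympForm_smul_left, div_mul_cancel₀ f hne] at this
      have heq : (Cb H u v : Set (Vec m F)) = {y | y ∈ perp2 u v ∧ ω x y = 0} := by
        refine Set.eq_of_subset_of_ncard_le hsub ?_
        refine Nat.le_of_mul_le_mul_right ?_ (show 0 < q by omega)
        rw [hqdef, hcardperp, ← hqdef, ← hPdef, ← hAC, hyeq, ← Nat.card_coe_set_eq, mul_comm q]
        rfl
      intro w hw
      rw [← SetLike.mem_coe, heq]
      exact ⟨fun h => h.2, fun h => ⟨hw, h⟩⟩
  rw [hyeq] at hbd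
  have ho1 : P - 1 ≤ o * (q - 1) := hbd.trans (Nat.mul_le_mul_right _ hoo)
  rcases eq_or_lt_of_le hm with hm2 | hm3
  · -- rank two
    have hPqq : P = q ^ 2 := by rw [hPq, ← hm2]
    have hCeq : ∀ w, w ∈ Cb H u v ↔ ∃ c : F, w = c • x := by
      have hfwd : Y = Cb H u v := by
        rcases hC with ⟨h, -⟩ | ⟨-, -, h⟩
        · exact h
        · have hset : (Cb H u v : Set (Vec m F)) = {y | y ∈ perp2 u v ∧ ω x y = 0} := by
            ext w
            exact ⟨fun hw => ⟨hw.1, (h w hw.1).1 hw⟩, fun hw => (h w hw.1).2 hw.2⟩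
          refine SetLike.coe_injective ?_
          rw [hset]
          refine Set.eq_of_subset_of_ncard_le (fun y hy => ?_) ?_
          · obtain ⟨c, rfl⟩ := hline y hy
            exact ⟨hYW hy, by rw [sympForm_smul_right, sympForm_self, mul_zero]⟩
          · refine Nat.le_of_mul_le_mul_right ?_ (show 0 < q by omega)
            rw [hqdef, hcardperp, ← hqdef, ← hPdef, hPqq, sq, ← Nat.card_coe_set_eq]
            exact Nat.mul_le_mul_right _ hyeq.ge
      intro w
      rw [← hfwd]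
      exact ⟨hline w, fun ⟨c, hc⟩ => hc ▸ hmem c⟩
    have hj : j = q := by
      rcases hC with ⟨-, h⟩ | ⟨-, h, -⟩
      · rw [hPqq, sq] at h
        exact Nat.eq_of_mul_eq_mul_right (by omega) h
      · exact h
    refine .line hm2.symm x (hYW hx) hx0' hCeq (fun l hl => hspan ▸ hinv l hl) ?_
    rw [← hspan]
    refine arith_sp4_line hq (hPqq ▸ (show P - 1 ≤ o' * (q - 1) from hbd)) (hPqq ▸ hk') (le_trans (le_of_eq ?_) hb)
    rw [hj, hsplit, ← ho]
  · rcases hC with ⟨hYeq, hjq⟩ | ⟨h2, hj, hCeq⟩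
    · exfalso
      refine arith_full_line_small hq ?_ hρ hjq ho1 hk' hb
      exact hPq ▸ Nat.pow_le_pow_right (by omega) (by omega)
    · refine .perp h2 x (hYW hx) hx0' (fun w hw h => (hCeq w hw).2 h) (fun z hz hxz s => ?_) hm3
      by_contra hns
      have ht2 : 2 ≤ t := by
        by_contra hlt
        have ht1 : t = 1 := by omega
        refine hns (Subgroup.relIndex_eq_one.1 ht1 ⟨tv_mem_fixPair hz s, ?_⟩)
        refine smul_set_eq_of_subset fun y hy => ⟨?_, smul_ne_zero_of_ne_zero _ hy.2⟩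
        obtain ⟨c, rfl⟩ := hline y hy.1
        rw [smul_comm, tv_smul_of_orth s hxz]
        exact hmem c
      refine arith_perp hq hP2 (hρ2 h2) ht2 hbd hk' (le_trans (le_of_eq ?_) hb)
      rw [hj, hsplit, ← ho]

end Cfsg.Agent.InvChar68.MinIndexSp
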