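import Cfsg.Agent.Lib.Symplectic.Simple
import Cfsg.Agent.Lib.Symplectic.Card
import Cfsg.Agent.Lib.Forms.Symp

/-!
Coordinates of the stabiliser of a point of the symplectic polar space with respect to a hyperbolic
pair `(u, v)`: the Heisenberg elements `qel`, the fixer `fixPair` of the pair and the torus `dd`
(helper68).
-/

set_option autoImplicit false

namespace Cfsg.Agent.InvChar68.MinIndexSp

open Cfsg Cfsg.Agent.Symplectic MulAction
open scoped commutatorElement

variable {m : ℕ} {F : Type*} [Field F]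

local notation "ω" => Cfsg.sympForm m F

/-- The vectors orthogonal to `u` and to `v`. -/
def perp2 (u v : Vec m F) : Submodule F (Vec m F) where
  carrier := {x | ω u x = 0 ∧ ω v x = 0}
  add_mem' ha hb := ⟨by rw [sympForm_add_right, ha.1, hb.1, add_zero],
    by rw [sympForm_add_right, ha.2, hb.2, add_zero]⟩
  zero_mem' := ⟨sympForm_zero_right _, sympForm_zero_right _⟩
  smul_mem' c x hx := ⟨by rw [sympForm_smul_right, hx.1, mul_zero],
    by rw [sympForm_smul_right, hx.2, mul_zero]⟩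

theorem mem_perp2 {u v x : Vec m F} : x ∈ perp2 u v ↔ ω u x = 0 ∧ ω v x = 0 := Iff.rfl

theorem orth_symm {u v : Vec m F} (h : ω u v = 0) : ω v u = 0 := by
  rw [sympForm_swap, h, neg_zero]

/-- The element `x ↦ x + ω(x, w) u + ω(x, u) w + t ω(x, u) u` of the radical at `u`. -/
def qel (u w : Vec m F) (t : F) : Sp m F := sh u w 1 * tv u t

theorem qel_smul {u w : Vec m F} (h : ω u w = 0) (t : F) (x : Vec m F) :
    qel u w t • x = x + ω x w • u + ω x u • w + (t * ω x u) • u := by
  rw [qel, mul_smul, tv_smul, sh_smul h]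
  simp only [sympForm_add_left, sympForm_smul_left, sympForm_self, h, one_mul, mul_zero, add_zero]
  module

theorem qel_zero (u : Vec m F) (t : F) : qel u 0 t = tv u t :=
  eq_of_smul_eq fun x => by rw [qel_smul (sympForm_zero_right u), tv_smul]; simp

theorem qel_mul {u w w' : Vec m F} (h : ω u w = 0) (h' : ω u w' = 0) (t t' : F) :
    qel u w t * qel u w' t' = qel u (w + w') (t + t' + ω w' w) := by
  refine eq_of_smul_eq fun x => ?_
  have h2 : ω u (w + w') = 0 := by rw [sympForm_add_right, h, h', add_zero]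
  rw [mul_smul, qel_smul h', qel_smul h, qel_smul h2]
  simp only [sympForm_add_left, sympForm_add_right, sympForm_smul_left, sympForm_self, h,
    orth_symm h']
  module

theorem qel_inv {u w : Vec m F} (h : ω u w = 0) (t : F) :
    (qel u w t)⁻¹ = qel u (-w) (-t) := by
  have h' : ω u (-w) = 0 := by
    rw [← neg_one_smul F w, sympForm_smul_right, h, mul_zero]
  refine inv_eq_of_mul_eq_one_right ?_
  rw [qel_mul h h', add_neg_cancel, add_neg_cancel, zero_add]
  have : ω (-w) w = 0 := by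
    rw [← neg_one_smul F w, sympForm_smul_left, sympForm_self, mul_zero]
  rw [this, qel_zero, tv_zero]

theorem qel_conj_qel {u w x : Vec m F} (h : ω u w = 0) (hx : ω u x = 0) (t s : F) :
    qel u w t * qel u x s * (qel u w t)⁻¹ = qel u x (s + 2 * ω x w) := by
  rw [mul_inv_eq_iff_eq_mul, qel_mul h hx, qel_mul hx h, add_comm w x, sympForm_swap w x]
  exact congrArg (qel u (x + w)) (by ring)

theorem conj_qel {u w : Vec m F} (h : ω u w = 0) (t : F) {g : Sp m F} {a : F} (ha : a ≠ 0)
    (hg : g • u = a • u) :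
    g * qel u w t * g⁻¹ = qel u (a • (g • w)) (a ^ 2 * t) := by
  have h' : ω u (a • (g • w)) = 0 := by
    rw [sympForm_smul_right, ← sympForm_smul_left, ← hg, sympForm_smul_smul, h]
  refine eq_of_smul_eq fun x => ?_
  have e1 : ω (g⁻¹ • x) w = ω x (g • w) := by
    rw [← sympForm_smul_smul g (g⁻¹ • x) w, smul_inv_smul]
  have e2 : ω (g⁻¹ • x) u = a * ω x u := by
    rw [← sympForm_smul_smul g (g⁻¹ • x) u, smul_inv_smul, hg, sympForm_smul_right]
  rw [mul_smul, mul_smul, qel_smul h, qel_smul h', smul_add, smul_add, smul_add, smul_inv_smul,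
    smul_comm g, smul_comm g (ω (g⁻¹ • x) u), smul_comm g, hg, e1, e2, sympForm_smul_right]
  generalize g • w = w'
  module

theorem qel_fix {u w x : Vec m F} (h : ω u w = 0) (t : F) (h1 : ω x w = 0) (h2 : ω x u = 0) :
    qel u w t • x = x := by
  rw [qel_smul h, h1, h2]; simp

theorem qel_swap {u z : Vec m F} (h : ω u z = 0) (c : F) :
    qel u (c • z) 0 = qel z (c • u) 0 := by
  have h1 : ω u (c • z) = 0 := by rw [sympForm_smul_right, h, mul_zero]
  have h2 : ω z (c • u) = 0 := by rw [sympForm_smul_right, orth_symm h, mul_zero]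
  refine eq_of_smul_eq fun x => ?_
  rw [qel_smul h1, qel_smul h2, sympForm_smul_right, sympForm_smul_right]
  module

theorem tv_split {u z : Vec m F} (h : ω u z = 0) (α s : F) :
    tv (z + α • u) s = qel u ((s * α) • z) (α ^ 2 * s) * tv z s := by
  refine eq_of_smul_eq fun x => ?_
  have h1 : ω u ((s * α) • z) = 0 := by rw [sympForm_smul_right, h, mul_zero]
  rw [mul_smul, qel_smul h1, tv_smul, tv_smul]
  simp only [sympForm_add_left, sympForm_add_right, sympForm_smul_left, sympForm_smul_right,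
    sympForm_self, orth_symm h]
  module

/-! ### The projection onto the orthogonal of a hyperbolic pair -/

/-- The component of `x` orthogonal to a hyperbolic pair. -/
def proj (u v x : Vec m F) : Vec m F := x - ω x v • u - ω u x • v

theorem proj_mem {u v : Vec m F} (hp : ω u v = 1) (x : Vec m F) : proj u v x ∈ perp2 u v := by
  refine ⟨?_, ?_⟩
  · simp [proj, sympForm_sub_right, sympForm_smul_right, hp]
  · rw [proj, sympForm_sub_right, sympForm_sub_right, sympForm_smul_right, sympForm_smul_right,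
      sympForm_self, sympForm_swap v u, hp, sympForm_swap v x]
    ring

theorem eq_proj_add (u v x : Vec m F) : x = proj u v x + ω x v • u + ω u x • v := by
  simp only [proj]; abel

theorem eq_proj_add_of_orth {u v x : Vec m F} (hx : ω u x = 0) :
    x = proj u v x + ω x v • u := by
  conv_lhs => rw [eq_proj_add u v x, hx, zero_smul, add_zero]

/-- The form is nondegenerate on the orthogonal of a hyperbolic pair. -/
theorem perp2_eq_zero {u v w : Vec m F} (hp : ω u v = 1) (hw : w ∈ perp2 u v)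
    (h : ∀ y ∈ perp2 u v, ω w y = 0) : w = 0 := by
  refine Cfsg.Agent.Forms.sympForm_left_cancel fun x => ?_
  rw [eq_proj_add u v x, sympForm_add_right, sympForm_add_right, sympForm_smul_right,
    sympForm_smul_right, h _ (proj_mem hp x), orth_symm hw.1, orth_symm hw.2]
  ring

theorem exists_perp2_pairing {u v w : Vec m F} (hp : ω u v = 1) (hw : w ∈ perp2 u v)
    (hw0 : w ≠ 0) : ∃ y ∈ perp2 u v, ω w y = 1 := by
  by_contra hc
  refine hw0 (perp2_eq_zero hp hw fun y hy => ?_)
  by_contra hne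
  exact hc ⟨(ω w y)⁻¹ • y, Submodule.smul_mem _ _ hy,
    by rw [sympForm_smul_right, inv_mul_cancel₀ hne]⟩

/-- Inside the orthogonal of the pair, the vectors orthogonal to `z` detect the line of `z`. -/
theorem exists_perp2_separating {u v z x : Vec m F} (hp : ω u v = 1) (hz : z ∈ perp2 u v)
    (hz0 : z ≠ 0) (hx : x ∈ perp2 u v) (hne : ∀ a : F, x ≠ a • z) :
    ∃ y ∈ perp2 u v, ω z y = 0 ∧ ω x y ≠ 0 := by
  obtain ⟨y₁, hy₁, h1⟩ := exists_perp2_pairing hp hz hz0
  by_contra hc
  apply hne (ω x y₁)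
  refine sub_eq_zero.1 (perp2_eq_zero hp
    (Submodule.sub_mem _ hx (Submodule.smul_mem _ _ hz)) fun y hy => ?_)
  have hy' : y - ω z y • y₁ ∈ perp2 u v := Submodule.sub_mem _ hy (Submodule.smul_mem _ _ hy₁)
  have h2 : ω x (y - ω z y • y₁) = 0 := by
    by_contra h3
    exact hc ⟨_, hy', by rw [sympForm_sub_right, sympForm_smul_right, h1]; ring, h3⟩
  rw [sympForm_sub_left, sympForm_smul_left]
  rw [sympForm_sub_right, sympForm_smul_right] at h2
  linear_combination h2

/-! ### The Levi complement -/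

/-- The fixer of a pair. -/
def fixPair (u v : Vec m F) : Subgroup (Sp m F) :=
  stabilizer (Sp m F) u ⊓ stabilizer (Sp m F) v

theorem mem_fixPair {u v : Vec m F} {g : Sp m F} :
    g ∈ fixPair u v ↔ g • u = u ∧ g • v = v := by
  simp [fixPair, mem_stabilizer_iff]

theorem tv_mem_fixPair {u v w : Vec m F} (hw : w ∈ perp2 u v) (c : F) : tv w c ∈ fixPair u v :=
  mem_fixPair.2 ⟨tv_smul_of_orth c hw.1, tv_smul_of_orth c hw.2⟩

/-- `g` acts on `u` by `a` and on `v` by `a⁻¹`. -/
def IsLevi (u v : Vec m F) (g : Sp m F) (a : Fˣ) : Prop :=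
  g • u = (a : F) • u ∧ g • v = ((a⁻¹ : Fˣ) : F) • v

theorem IsLevi.mul {u v : Vec m F} {g h : Sp m F} {a b : Fˣ} (hg : IsLevi u v g a)
    (hh : IsLevi u v h b) : IsLevi u v (g * h) (a * b) := by
  refine ⟨?_, ?_⟩
  · rw [mul_smul, hh.1, smul_comm g, hg.1, smul_smul, Units.val_mul, mul_comm]
  · rw [mul_smul, hh.2, smul_comm g, hg.2, smul_smul, mul_inv, Units.val_mul, mul_comm]

theorem IsLevi.inv {u v : Vec m F} {g : Sp m F} {a : Fˣ} (hg : IsLevi u v g a) :
    IsLevi u v g⁻¹ a⁻¹ := by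
  refine ⟨?_, ?_⟩
  · rw [inv_smul_eq_iff, smul_comm g, hg.1, smul_smul, ← Units.val_mul, inv_mul_cancel,
      Units.val_one, one_smul]
  · rw [inv_smul_eq_iff, smul_comm g, hg.2, smul_smul, ← Units.val_mul, inv_inv, mul_inv_cancel,
      Units.val_one, one_smul]

theorem isLevi_one_iff {u v : Vec m F} {g : Sp m F} :
    IsLevi u v g 1 ↔ g ∈ fixPair u v := by
  rw [mem_fixPair, IsLevi, inv_one, Units.val_one, one_smul, one_smul]

theorem IsLevi.smul_mem {u v : Vec m F} {g : Sp m F} {a : Fˣ} (hg : IsLevi u v g a)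
    {w : Vec m F} (hw : w ∈ perp2 u v) : g • w ∈ perp2 u v := by
  have h1 := sympForm_smul_smul g u w
  have h2 := sympForm_smul_smul g v w
  rw [hg.1, sympForm_smul_left, hw.1] at h1
  rw [hg.2, sympForm_smul_left, hw.2] at h2
  exact ⟨(mul_eq_zero.1 h1).resolve_left a.ne_zero, (mul_eq_zero.1 h2).resolve_left (Units.ne_zero _)⟩

theorem fixPair_smul_mem {u v : Vec m F} {g : Sp m F} (hg : g ∈ fixPair u v)
    {w : Vec m F} (hw : w ∈ perp2 u v) : g • w ∈ perp2 u v :=
  (isLevi_one_iff.2 hg).smul_mem hw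

/-- The torus element of a hyperbolic pair. -/
noncomputable def dd {u v : Vec m F} (hp : ω u v = 1) (a : Fˣ) : Sp m F :=
  Cfsg.Agent.Forms.spOfLinearMap
    { toFun := fun x => x + (((a : F) - 1) * ω x v) • u + ((((a⁻¹ : Fˣ) : F) - 1) * ω u x) • v
      map_add' := fun x y => by
        simp only [sympForm_add_left, sympForm_add_right]; module
      map_smul' := fun c x => by
        simp only [sympForm_smul_left, sympForm_smul_right, RingHom.id_apply]; module }
    (fun x y => by
      simp only [LinearMap.coe_mk, AddHom.coe_mk, sympForm_add_left, sympForm_add_right,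
        sympForm_smul_left, sympForm_smul_right, sympForm_self, hp, sympForm_swap v u,
        sympForm_swap x u, sympForm_swap v y]
      have ha : (a : F) * ((a⁻¹ : Fˣ) : F) = 1 := by rw [← Units.val_mul, mul_inv_cancel, Units.val_one]
      linear_combination (ω x v * ω u y - ω u x * ω y v) * ha)

theorem dd_smul {u v : Vec m F} (hp : ω u v = 1) (a : Fˣ) (x : Vec m F) :
    dd hp a • x = x + (((a : F) - 1) * ω x v) • u + ((((a⁻¹ : Fˣ) : F) - 1) * ω u x) • v :=
  Cfsg.Agent.Forms.spOfLinearMap_smul _ _ x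

theorem dd_isLevi {u v : Vec m F} (hp : ω u v = 1) (a : Fˣ) : IsLevi u v (dd hp a) a := by
  refine ⟨?_, ?_⟩
  · rw [dd_smul, hp, sympForm_self]; module
  · rw [dd_smul, hp, sympForm_self]; module

theorem dd_smul_perp {u v : Vec m F} (hp : ω u v = 1) (a : Fˣ) {x : Vec m F}
    (hx : x ∈ perp2 u v) : dd hp a • x = x := by
  rw [dd_smul, hx.1, orth_symm hx.2]; simp

theorem dd_mem_fixPair {u v z z' : Vec m F} (hz : z ∈ perp2 u v) (hz' : z' ∈ perp2 u v)
    (hp' : ω z z' = 1) (b : Fˣ) : dd hp' b ∈ fixPair u v :=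
  mem_fixPair.2 ⟨dd_smul_perp hp' b ⟨orth_symm hz.1, orth_symm hz'.1⟩,
    dd_smul_perp hp' b ⟨orth_symm hz.2, orth_symm hz'.2⟩⟩

/-- Commutation of the centre of the radical with the Levi complement. -/
theorem tv_comm_fixPair {u v : Vec m F} (t : F) {l : Sp m F} (hl : l ∈ fixPair u v) :
    l * tv u t = tv u t * l := by
  rw [← mul_inv_eq_iff_eq_mul, conj_tv, (mem_fixPair.1 hl).1]

/-! ### Transport from the standard pair -/

theorem exists_std {u v : Vec m F} (hm : 1 ≤ m) (hp : ω u v = 1) :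
    ∃ g : Sp m F, g • (fI ⟨0, hm⟩ : Vec m F) = u ∧ g • (eI ⟨0, hm⟩ : Vec m F) = v :=
  exists_smul_pair (sympForm_fI_eI _) hp

theorem perp2_std (i : Fin m) :
    perp2 (fI i : Vec m F) (eI i) = (supp {i} : Submodule F (Vec m F)) := by
  ext x
  simp [mem_perp2, mem_supp, sympForm_fI_left, sympForm_eI_left]

theorem mem_perp2_smul {u v x : Vec m F} (g : Sp m F) :
    g • x ∈ perp2 (g • u) (g • v) ↔ x ∈ perp2 u v := by
  simp [mem_perp2]

theorem fixPair_conj {u v : Vec m F} (g l : Sp m F) (hl : l ∈ fixPair u v) :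
    g * l * g⁻¹ ∈ fixPair (g • u) (g • v) := by
  obtain ⟨h1, h2⟩ := mem_fixPair.1 hl
  exact mem_fixPair.2 ⟨by rw [mul_smul, inv_smul_smul, mul_smul, h1],
    by rw [mul_smul, inv_smul_smul, mul_smul, h2]⟩

theorem card_perp2 [Fintype F] {u v : Vec m F} (hp : ω u v = 1) (hm : 1 ≤ m) :
    Nat.card (perp2 u v) = Fintype.card F ^ (2 * (m - 1)) := by
  obtain ⟨g, rfl, rfl⟩ := exists_std hm hp
  have e : (supp {(⟨0, hm⟩ : Fin m)} : Submodule F (Vec m F)) ≃
      perp2 (g • (fI ⟨0, hm⟩ : Vec m F)) (g • eI ⟨0, hm⟩) :=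
    { toFun := fun x => ⟨g • x.1, by rw [mem_perp2_smul, perp2_std]; exact x.2⟩
      invFun := fun x => ⟨g⁻¹ • x.1, by
        rw [← perp2_std, ← mem_perp2_smul g, smul_inv_smul]; exact x.2⟩
      left_inv := fun x => Subtype.ext (inv_smul_smul _ _)
      right_inv := fun x => Subtype.ext (smul_inv_smul _ _) }
  rw [← Nat.card_congr e, Symplectic.card_supp rfl, Finset.card_compl, Fintype.card_fin,
    Finset.card_singleton]

theorem exists_fixPair_smul {u v x y : Vec m F} (hm : 1 ≤ m) (hp : ω u v = 1)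
    (hx : x ∈ perp2 u v) (hy : y ∈ perp2 u v) (hx0 : x ≠ 0) (hy0 : y ≠ 0) :
    ∃ l ∈ fixPair u v, l • x = y := by
  obtain ⟨g, rfl, rfl⟩ := exists_std hm hp
  rw [← smul_inv_smul g x, mem_perp2_smul, perp2_std] at hx
  rw [← smul_inv_smul g y, mem_perp2_smul, perp2_std] at hy
  obtain ⟨k, hk, hkx⟩ := exists_move hx hy (smul_ne_zero_of_ne_zero _ hx0)
    (smul_ne_zero_of_ne_zero _ hy0)
  obtain ⟨h1, h2⟩ := mem_fixPairs.1 (tvGroup_le_fixPairs _ hk) _ (Finset.mem_singleton_self _)
  exact ⟨g * k * g⁻¹, fixPair_conj g k (mem_fixPair.2 ⟨h2, h1⟩),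
    by rw [mul_smul, mul_smul, hkx, smul_inv_smul]⟩

theorem fixPairs_singleton (i : Fin m) :
    (fixPairs {i} : Subgroup (Sp m F)) = fixPair (fI i) (eI i) := by
  ext g
  simp [mem_fixPairs, mem_fixPair, and_comm]

theorem tvGroup_perfect [Fintype F] {S : Finset (Fin m)} (hq : 3 ≤ Fintype.card F)
    (h : Fintype.card F = 3 → ∃ i j : Fin m, i ∉ S ∧ j ∉ S ∧ i ≠ j) :
    (tvGroup S : Subgroup (Sp m F)) ≤ ⁅(tvGroup S : Subgroup (Sp m F)), (tvGroup S : Subgroup (Sp m F))⁆ := by
  set T : Subgroup (Sp m F) := tvGroup S with hT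
  set K : Subgroup (Sp m F) := ⁅T, T⁆ with hK
  have hone : ∀ {g k : Sp m F}, g ∈ tvGroup S → k ∈ tvGroup S → g * k * g⁻¹ * k⁻¹ ∈ K :=
    fun hg hk => Subgroup.commutator_mem_commutator hg hk
  rw [hT, tvGroup, Subgroup.closure_le]
  rintro _ ⟨w, hw, c, rfl⟩
  by_cases hw0 : w = 0
  · have : tv w c = 1 := eq_of_smul_eq fun x => by simp [tv_smul, hw0]
    rw [this]; exact one_mem _
  rcases exists_sq_ne_one_or (F := F) with ⟨a, ha0, ha1⟩ | ⟨hc, -⟩ | ⟨hc, h2⟩
  · obtain ⟨g, hg, hgw⟩ := exists_move hw ((supp S).smul_mem a hw) hw0 (smul_ne_zero ha0 hw0)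
    have key := hone hg (tv_mem_tvGroup hw (c / (a ^ 2 - 1)))
    rw [conj_tv, hgw, tv_smul_vec, tv_inv, tv_mul_tv] at key
    have hc' : a ^ 2 * (c / (a ^ 2 - 1)) + -(c / (a ^ 2 - 1)) = c := by
      have : a ^ 2 - 1 ≠ 0 := sub_ne_zero.2 ha1
      field_simp
      ring
    rw [hc'] at key
    exact key
  · omega
  · obtain ⟨i, j, hi, hj, hij⟩ := h hc
    have hsh : ∀ a : F, sh (eI i) (fI j) a ∈ tvGroup S := fun a =>
      mul_mem (mul_mem (tv_mem_tvGroup (add_mem (eI_mem_supp hi) (fI_mem_supp hj)) _)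
        (tv_mem_tvGroup (eI_mem_supp hi) _)) (tv_mem_tvGroup (fI_mem_supp hj) _)
    have hshear : ∀ a d : F, tv (eI j + a • eI i) d * tv (eI j) (-d) ∈ K := fun a d => by
      have hg : sh (eI i) (fI j) (-a) • (eI j : Vec m F) = eI j + a • eI i := by
        rw [sh_smul (sympForm_eI_fI_of_ne hij), sympForm_eI_fI, sympForm_eI_eI]
        simp
      have key := hone (hsh (-a)) (tv_mem_tvGroup (eI_mem_supp hj) d)
      rwa [conj_tv, hg, tv_inv] at key
    obtain ⟨g, hg, hgw⟩ := exists_move (eI_mem_supp hi) hw (eI_ne_zero i) hw0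
    have key := mul_mem (hshear (1 : F) (c / 2)) (hshear (-1 : F) (c / 2))
    have hi' : tv (eI i) c ∈ K := by
      convert key
      refine eq_of_smul_eq fun x => ?_
      simp only [mul_smul, tv_smul, sympForm_add_left, sympForm_smul_left, sympForm_add_right,
        sympForm_smul_right, sympForm_self, sympForm_eI_eI]
      match_scalars <;> field_simp <;> ring
    have h3 := mul_mem (hone hg (T.commutator_le_self hi')) hi'
    rw [inv_mul_cancel_right, conj_tv, hgw] at h3
    exact h3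

theorem fixPair_perfect [Fintype F] {u v : Vec m F} (hm : 2 ≤ m) (hq : 3 ≤ Fintype.card F)
    (hexc : ¬ (m = 2 ∧ Fintype.card F = 3)) (hp : ω u v = 1) :
    ⁅fixPair u v, fixPair u v⁆ = fixPair u v := by
  refine le_antisymm ((fixPair u v).commutator_le_self) fun l hl => ?_
  obtain ⟨g, rfl, rfl⟩ := exists_std (m := m) (by omega) hp
  set i : Fin m := ⟨0, by omega⟩
  have hl' : g⁻¹ * l * g ∈ (fixPair (fI i) (eI i) : Subgroup (Sp m F)) := by
    have := fixPair_conj g⁻¹ l hl
    rwa [inv_smul_smul, inv_smul_smul, inv_inv] at this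
  rw [← fixPairs_singleton, fixPairs_eq_tvGroup] at hl'
  have h1 := tvGroup_perfect (m := m) (F := F) hq (fun h3 => ⟨⟨1, by omega⟩, ⟨2, by
    rcases eq_or_lt_of_le hm with h | h
    · exact absurd ⟨h.symm, h3⟩ hexc
    · omega⟩, by simp [i], by simp [i], by simp⟩) hl'
  have h2 : ⁅(tvGroup {i} : Subgroup (Sp m F)), tvGroup {i}⁆.map (MulAut.conj g).toMonoidHom ≤
      ⁅fixPair (g • (fI i : Vec m F)) (g • eI i), fixPair (g • (fI i : Vec m F)) (g • eI i)⁆ := by
    rw [Subgroup.map_commutator]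
    have : (tvGroup {i} : Subgroup (Sp m F)).map (MulAut.conj g).toMonoidHom ≤
        fixPair (g • (fI i : Vec m F)) (g • eI i) := by
      rintro _ ⟨k, hk, rfl⟩
      exact fixPair_conj g k (fixPairs_singleton (F := F) i ▸ tvGroup_le_fixPairs _ hk)
    exact Subgroup.commutator_mono this this
  have := h2 ⟨_, h1, rfl⟩
  simpa [mul_assoc] using this

end Cfsg.Agent.InvChar68.MinIndexSp
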