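import Cfsg.Agent.InvChar68.MinIndexSp.Counting
import Cfsg.Agent.InvChar68.MinIndexSp.Frame
import Cfsg.Agent.InvChar68.MinIndexSp.Cases
import Mathlib.LinearAlgebra.Projectivization.Cardinality

/-!
Index bounds for stabilisers of a point, a totally isotropic line and an orthogonal decomposition
(helper68).
-/

set_option autoImplicit false

namespace Cfsg.Agent.InvChar68.MinIndexSp

open Cfsg Cfsg.Agent.Symplectic MulAction
open scoped Pointwise LinearAlgebra.Projectivization

variable {m : ℕ} {F : Type*} [Field F] [Fintype F]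

local notation "ω" => Cfsg.sympForm m F

theorem index_stab_le {G X : Type*} [Group G] [Finite G] [MulAction G X] (H : Subgroup G) (x : X)
    (T : Set X) (hT : T.Finite) (h : ∀ g ∈ H, g • x ∈ T) :
    (stabilizer G x).index ≤ T.ncard * H.index := by
  have h1 : (stabilizer G x).index ≤ (H ⊓ stabilizer G x).index :=
    Nat.le_of_dvd (Nat.pos_of_ne_zero Subgroup.index_ne_zero_of_finite)
      (Subgroup.index_dvd_of_le inf_le_right)
  have h2 : (H ⊓ stabilizer G x).relIndex H ≤ T.ncard := by
    haveI := hT.to_subtype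
    rw [Subgroup.relIndex, Subgroup.index, ← Nat.card_coe_set_eq]
    refine Nat.card_le_card_of_injective (fun c => (⟨(c.out : G) • x, h _ c.out.2⟩ : T)) ?_
    intro a b hab
    have hab' : (a.out : G) • x = (b.out : G) • x := congrArg Subtype.val hab
    rw [← a.out_eq', ← b.out_eq', QuotientGroup.eq, Subgroup.mem_subgroupOf]
    refine ⟨(a.out⁻¹ * b.out).2, ?_⟩
    show ((a.out : G)⁻¹ * (b.out : G)) • x = x
    rw [mul_smul, ← hab', inv_smul_smul]
  have h3 := Subgroup.relIndex_mul_index (H := H ⊓ stabilizer G x) (K := H) inf_le_left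
  calc (stabilizer G x).index ≤ (H ⊓ stabilizer G x).index := h1
    _ = (H ⊓ stabilizer G x).relIndex H * H.index := h3.symm
    _ ≤ T.ncard * H.index := Nat.mul_le_mul_right _ h2

theorem index_stab_eq_setOrbit {G X : Type*} [Group G] [MulAction G X] (Y : Set X) :
    (stabilizer G Y).index = (setOrbit (⊤ : Subgroup G) Y).ncard := by
  rw [MulAction.index_stabilizer]
  congr 1
  ext Z
  exact ⟨fun ⟨g, hg⟩ => ⟨g, Subgroup.mem_top _, hg.symm⟩, fun ⟨g, _, hg⟩ => ⟨g, hg.symm⟩⟩

theorem exists_pair {x : Vec m F} (hx : x ≠ 0) : ∃ v, ω x v = 1 := by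
  obtain ⟨y, -, hy⟩ := exists_form_ne_zero (S := ∅) (u := x) (by simp [supp_empty]) hx
  exact ⟨(ω x y)⁻¹ • y, by rw [sympForm_smul_right, inv_mul_cancel₀ hy]⟩

theorem card_vec : Nat.card (Vec m F) = Fintype.card F ^ (2 * m) := by
  rw [Nat.card_fun, Nat.card_sum, Nat.card_fin, Nat.card_eq_fintype_card, two_mul]

theorem card_points :
    (Fintype.card F - 1) * Nat.card (Pt m F) + 1 = Fintype.card F ^ (2 * m) := by
  rw [← card_vec (m := m), Projectivization.card' F (Vec m F), Nat.card_eq_fintype_card (α := F),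
    mul_comm]

theorem index_point (hm : 1 ≤ m) {H : Subgroup (Sp m F)} (hk : Small H) {z : Vec m F} (hz : z ≠ 0)
    (hfix : ∀ g ∈ H, ∃ c : F, g • z = c • z) : False := by
  have h := index_stab_le H (Projectivization.mk F z hz) {Projectivization.mk F z hz}
    (Set.finite_singleton _) fun g hg => by
      obtain ⟨c, hc⟩ := hfix g hg
      rw [Set.mem_singleton_iff, Projectivization.smul_mk]
      exact (Projectivization.mk_eq_mk_iff' F _ _ _ _).2 ⟨c, hc.symm⟩
  rw [Set.ncard_singleton, one_mul, MulAction.index_stabilizer_of_transitive] at h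
  replace h : Nat.card (Pt m F) ≤ H.index := h
  rw [Small, ← card_points] at hk
  have := Nat.mul_le_mul_left (Fintype.card F - 1) h
  omega

/-- Counting all the nonzero vectors against the images of a set. -/
theorem orbit_count_top {Y : Set (Vec m F)} (hY : ∀ y ∈ Y, y ≠ 0) {c : ℕ} {x : Vec m F}
    (hx : x ≠ 0) (hc : c ≤ {Z ∈ setOrbit (⊤ : Subgroup (Sp m F)) Y | x ∈ Z}.ncard) :
    (Fintype.card F ^ (2 * m) - 1) * c ≤ (stabilizer (Sp m F) Y).index * Y.ncard := by
  have h := setOrbit_count (⊤ : Subgroup (Sp m F)) ({0}ᶜ : Set (Vec m F)) Y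
    (fun l _ y hy => smul_ne_zero_of_ne_zero l hy)
    (fun a ha b hb => by
      obtain ⟨g, hg⟩ := exists_smul_eq_of_ne_zero (m := m) (F := F) ha hb
      exact ⟨g, Subgroup.mem_top _, hg⟩) hY hx hc
  rwa [Set.ncard_compl, Set.ncard_singleton, card_vec, ← index_stab_eq_setOrbit] at h

theorem mem_smul_span {g : Sp m F} {S : Set (Vec m F)} {y : Vec m F}
    (hy : y ∈ g • ((Submodule.span F S : Submodule F (Vec m F)) : Set (Vec m F))) :
    ∃ w ∈ Submodule.span F S, y = g • w := by
  obtain ⟨w, hw, rfl⟩ := hy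
  exact ⟨w, hw, rfl⟩

theorem smul_span_pair (g : Sp m F) (a b : Vec m F) (c d : F) :
    g • (c • a + d • b) = c • (g • a) + d • (g • b) := by
  rw [smul_add, smul_comm, smul_comm g d]

theorem index_line {H : Subgroup (Sp m F)} (hm : m = 2) (hk : Small H) {a b : Vec m F}
    (ha : a ≠ 0) (hab : ω a b = 0) (hli : ∀ c : F, b ≠ c • a)
    (hinv : ∀ g ∈ H, ∀ y ∈ Submodule.span F {a, b}, g • y ∈ Submodule.span F {a, b}) : False := by
  classical
  set U := Submodule.span F {a, b} with hU
  set U0 : Set (Vec m F) := (U : Set (Vec m F)) \ {0}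
  have hUmem : ∀ y ∈ U, ∃ c d : F, c • a + d • b = y := fun y hy =>
    Submodule.mem_span_pair.1 hy
  have hH : ∀ g ∈ H, g • U0 ∈ ({U0} : Set (Set (Vec m F))) := fun g hg =>
    smul_set_eq_of_subset fun y hy => ⟨hinv g hg y hy.1, smul_ne_zero_of_ne_zero g hy.2⟩
  have h1 := index_stab_le H U0 {U0} (Set.finite_singleton _) hH
  rw [Set.ncard_singleton, one_mul] at h1
  obtain ⟨a', ha'⟩ := exists_pair ha
  set W := perp2 a a'
  set q := Fintype.card F
  -- images through `a`
  have hc : q + 1 ≤ {Z ∈ setOrbit (⊤ : Subgroup (Sp m F)) U0 | a ∈ Z}.ncard := by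
    have hchoice : ∀ z : {z : W // z ≠ 0}, ∃ g : Sp m F, g • a = a ∧ g • b = (z.1 : Vec m F) := by
      rintro ⟨⟨z, hz⟩, hz0⟩
      refine exists_smul_orth_pair (by omega) ha ha hab hli hz.1 fun c hc => hz0 (Subtype.ext ?_)
      have := hz.2
      change z = c • a at hc
      rw [hc, sympForm_smul_right, sympForm_swap, ha', mul_neg, mul_one, neg_eq_zero] at this
      simp [hc, this]
    choose g hga hgb using hchoice
    set f : {z : W // z ≠ 0} → {Z ∈ setOrbit (⊤ : Subgroup (Sp m F)) U0 | a ∈ Z} := fun z =>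
      ⟨g z • U0, ⟨g z, Subgroup.mem_top _, rfl⟩, by
        have : g z • a ∈ g z • U0 :=
          Set.smul_mem_smul_set ⟨Submodule.subset_span (by simp), ha⟩
        rwa [hga] at this⟩
    have hfib : ∀ Z ∈ Finset.univ.image f,
        (Finset.univ.filter fun z => f z = Z).card ≤ q - 1 := by
      intro Z hZ
      obtain ⟨z₀, -, rfl⟩ := Finset.mem_image.1 hZ
      rw [← Fintype.card_units (α := F)]
      have hmul : ∀ z, f z = f z₀ → ∃ c : Fˣ, (z.1 : Vec m F) = (c : F) • (z₀.1 : Vec m F) := by
        intro z hz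
        have h : g z • b ∈ g z₀ • U0 := by
          have hZ' : g z • U0 = g z₀ • U0 := congrArg Subtype.val hz
          rw [← hZ']
          exact Set.smul_mem_smul_set ⟨Submodule.subset_span (by simp), fun h => hli 0 (by
            simp only [Set.mem_singleton_iff] at h
            rw [h, zero_smul])⟩
        obtain ⟨y, hy, hyz⟩ := h
        obtain ⟨c, d, rfl⟩ := hUmem y hy.1
        replace hyz : g z₀ • (c • a + d • b) = g z • b := hyz
        simp only [smul_span_pair, hga, hgb] at hyz
        have h0 := z.1.2.2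
        rw [← hyz, sympForm_add_right, sympForm_smul_right, sympForm_smul_right, z₀.1.2.2,
          sympForm_swap a' a, ha', mul_zero, add_zero, mul_neg, mul_one, neg_eq_zero] at h0
        rw [h0, zero_smul, zero_add] at hyz
        have hd : d ≠ 0 := fun hd => z.2 (Subtype.ext (by rw [← hyz, hd, zero_smul]; rfl))
        exact ⟨Units.mk0 d hd, hyz.symm⟩
      refine Finset.card_le_card_of_injOn
        (fun z => if hz : f z = f z₀ then (hmul z hz).choose else 1) (fun _ _ => Finset.mem_univ _)
        fun x hx y hy hxy => ?_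
      simp only [Finset.coe_filter, Finset.mem_univ, true_and, Set.mem_setOf_eq] at hx hy
      simp only [dif_pos hx, dif_pos hy] at hxy
      refine Subtype.ext (Subtype.ext ?_)
      rw [(hmul x hx).choose_spec, (hmul y hy).choose_spec, hxy]
    have h2 := Finset.card_le_mul_card_image (f := f) Finset.univ (q - 1) hfib
    have hW : Fintype.card {z : W // z ≠ 0} = q ^ 2 - 1 := by
      rw [Fintype.card_subtype_compl, Fintype.card_subtype_eq, ← Nat.card_eq_fintype_card,
        card_perp2 ha' (by omega), show 2 * (m - 1) = 2 by omega]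
    rw [Finset.card_univ, hW] at h2
    have h3 : (Finset.univ.image f).card ≤ {Z ∈ setOrbit (⊤ : Subgroup (Sp m F)) U0 | a ∈ Z}.ncard := by
      rw [← Nat.card_coe_set_eq, Nat.card_eq_fintype_card]
      exact Finset.card_le_univ _
    refine le_trans ?_ h3
    by_contra hlt
    have hq2 : 2 ≤ q := Fintype.one_lt_card
    obtain ⟨k, hk⟩ : ∃ k, q = k + 1 := ⟨q - 1, by omega⟩
    rw [hk] at h2 hlt
    have h4 := h2.trans (Nat.mul_le_mul_left (k + 1 - 1) (show (Finset.univ.image f).card ≤ k + 1 by omega))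
    have : (k + 1) ^ 2 = k * (k + 1) + (k + 1) := by ring
    rw [Nat.add_sub_cancel] at h4
    omega
  have hU0 : U0.ncard ≤ q ^ 2 - 1 := by
    rw [Set.ncard_sdiff_singleton_of_mem (Submodule.zero_mem U)]
    refine Nat.sub_le_sub_right ?_ 1
    rw [← Nat.card_coe_set_eq]
    show Nat.card U ≤ q ^ 2
    have hsurj : Function.Surjective fun p : F × F =>
        (⟨p.1 • a + p.2 • b, Submodule.mem_span_pair.2 ⟨_, _, rfl⟩⟩ : U) := fun ⟨y, hy⟩ => by
      obtain ⟨c, d, rfl⟩ := hUmem y hy
      exact ⟨(c, d), rfl⟩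
    refine (Nat.card_le_card_of_surjective _ hsurj).trans ?_
    rw [Nat.card_prod, Nat.card_eq_fintype_card, sq]
  have h5 := orbit_count_top (fun y hy => hy.2) ha hc
  have h6 := h5.trans (Nat.mul_le_mul h1 hU0)
  rw [Small, show 2 * m = 4 by omega] at hk
  rw [show 2 * m = 4 by omega] at h6
  have hq2 : 2 ≤ q := Fintype.one_lt_card
  obtain ⟨k, hk'⟩ : ∃ k, q = k + 1 := ⟨q - 1, by omega⟩
  simp only [hk', show Fintype.card F = k + 1 from hk', show k + 1 + 1 = k + 2 by omega] at h6
  rw [show Fintype.card F = k + 1 from hk', Nat.add_sub_cancel] at hk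
  have e1 : (k + 1) ^ 2 - 1 = k * (k + 2) := by
    have : (k + 1) ^ 2 = k * (k + 2) + 1 := by ring
    omega
  rw [e1] at h6
  have e2 : (k + 1) ^ 4 - 1 ≤ H.index * k := by
    refine Nat.le_of_mul_le_mul_right ?_ (show 0 < k + 2 by omega)
    calc ((k + 1) ^ 4 - 1) * (k + 2) ≤ H.index * (k * (k + 2)) := h6
      _ = H.index * k * (k + 2) := by ring
  rw [mul_comm] at e2
  omega

theorem index_decomposition {H : Subgroup (Sp m F)} (hm : 2 ≤ m) (hq : 3 ≤ Fintype.card F)
    (hk : Small H) {u v : Vec m F} (hp : ω u v = 1) (T : Set (Vec m F))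
    (hinv : ∀ g ∈ H,
      g • ((Submodule.span F {u, v} : Submodule F (Vec m F)) : Set (Vec m F)) ∈
        ({((Submodule.span F {u, v} : Submodule F (Vec m F)) : Set (Vec m F)), T} :
          Set (Set (Vec m F)))) : False := by
  classical
  set L := Submodule.span F {u, v} with hL
  set L0 : Set (Vec m F) := (L : Set (Vec m F)) \ {0}
  set q := Fintype.card F
  have hu : u ≠ 0 := fun h => by simp [h] at hp
  have hLmem : ∀ y ∈ L, ∃ c d : F, c • u + d • v = y := fun y hy => Submodule.mem_span_pair.1 hy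
  have hH : ∀ g ∈ H, g • L0 ∈ ({L0, T \ {0}} : Set (Set (Vec m F))) := fun g hg => by
    have : g • L0 = (g • (L : Set (Vec m F))) \ {0} := by
      rw [Set.smul_set_sdiff]
      congr 1
      simp
    rw [this]
    rcases hinv g hg with h | h
    · rw [h]; exact Or.inl rfl
    · rw [Set.mem_singleton_iff] at h
      rw [h]; exact Or.inr rfl
  have h1 := index_stab_le H L0 _ ((Set.finite_singleton _).insert _) hH
  have h1' : (stabilizer (Sp m F) L0).index ≤ 2 * H.index :=
    h1.trans (Nat.mul_le_mul_right _ ((Set.ncard_insert_le _ _).trans (by simp)))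
  -- images through `u`
  have hc : q ^ (2 * m - 2) ≤ {Z ∈ setOrbit (⊤ : Subgroup (Sp m F)) L0 | u ∈ Z}.ncard := by
    have hchoice : ∀ w : {w : Vec m F // w ∈ supp (∅ : Finset (Fin m)) ∧ ω u w = 1},
        ∃ g : Sp m F, g • u = u ∧ g • v = (w : Vec m F) := fun w => exists_smul_pair hp w.2.2
    choose g hgu hgv using hchoice
    set f : {w : Vec m F // w ∈ supp (∅ : Finset (Fin m)) ∧ ω u w = 1} →
        {Z ∈ setOrbit (⊤ : Subgroup (Sp m F)) L0 | u ∈ Z} := fun w =>
      ⟨g w • L0, ⟨g w, Subgroup.mem_top _, rfl⟩, by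
        have : g w • u ∈ g w • L0 := Set.smul_mem_smul_set ⟨Submodule.subset_span (by simp), hu⟩
        rwa [hgu] at this⟩
    have hfib : ∀ Z ∈ Finset.univ.image f, (Finset.univ.filter fun w => f w = Z).card ≤ q := by
      intro Z hZ
      obtain ⟨w₀, -, rfl⟩ := Finset.mem_image.1 hZ
      have hadd : ∀ w, f w = f w₀ → ∃ c : F, (w : Vec m F) = c • u + (w₀ : Vec m F) := by
        intro w hw
        have hv0 : v ≠ 0 := fun h => by simp [h] at hp
        have h : g w • v ∈ g w₀ • L0 := by
          have hZ' : g w • L0 = g w₀ • L0 := congrArg Subtype.val hw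
          rw [← hZ']
          exact Set.smul_mem_smul_set ⟨Submodule.subset_span (by simp), hv0⟩
        obtain ⟨y, hy, hyw⟩ := h
        obtain ⟨c, d, rfl⟩ := hLmem y hy.1
        replace hyw : g w₀ • (c • u + d • v) = g w • v := hyw
        simp only [smul_span_pair, hgu, hgv] at hyw
        have h0 := w.2.2
        rw [← hyw, sympForm_add_right, sympForm_smul_right, sympForm_smul_right, sympForm_self,
          w₀.2.2, mul_zero, zero_add, mul_one] at h0
        exact ⟨c, by rw [← hyw, h0, one_smul]⟩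
      refine le_of_le_of_eq (Finset.card_le_card_of_injOn
        (fun w => if hw : f w = f w₀ then (hadd w hw).choose else 0) (fun _ _ => Finset.mem_univ _)
        fun x hx y hy hxy => ?_) Finset.card_univ
      simp only [Finset.coe_filter, Finset.mem_univ, true_and, Set.mem_setOf_eq] at hx hy
      simp only [dif_pos hx, dif_pos hy] at hxy
      refine Subtype.ext ?_
      rw [(hadd x hx).choose_spec, (hadd y hy).choose_spec, hxy]
    have h2 := Finset.card_le_mul_card_image (f := f) Finset.univ q hfib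
    have hcard := card_fibre (F := F) (q := q) rfl (S := (∅ : Finset (Fin m))) (u := u)
      (by simp [supp_empty]) hu
    rw [Nat.card_eq_fintype_card, Finset.compl_empty, Finset.card_univ, Fintype.card_fin] at hcard
    rw [Finset.card_univ] at h2
    have h3 : (Finset.univ.image f).card ≤ {Z ∈ setOrbit (⊤ : Subgroup (Sp m F)) L0 | u ∈ Z}.ncard := by
      rw [← Nat.card_coe_set_eq, Nat.card_eq_fintype_card]
      exact Finset.card_le_univ _
    refine le_trans ?_ h3
    refine Nat.le_of_mul_le_mul_left ?_ (show 0 < q * q by positivity)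
    calc q * q * q ^ (2 * m - 2) = q ^ (2 * m) := by
          rw [show 2 * m = 2 + (2 * m - 2) by omega, pow_add, ← sq]
          congr 2; omega
      _ ≤ q * (q * (Finset.univ.image f).card) := hcard ▸ Nat.mul_le_mul_left q h2
      _ = q * q * (Finset.univ.image f).card := by ring
  have hL0 : L0.ncard ≤ q ^ 2 - 1 := by
    rw [Set.ncard_sdiff_singleton_of_mem (Submodule.zero_mem L)]
    refine Nat.sub_le_sub_right ?_ 1
    rw [← Nat.card_coe_set_eq]
    show Nat.card L ≤ q ^ 2
    have hsurj : Function.Surjective fun p : F × F =>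
        (⟨p.1 • u + p.2 • v, Submodule.mem_span_pair.2 ⟨_, _, rfl⟩⟩ : L) := fun ⟨y, hy⟩ => by
      obtain ⟨c, d, rfl⟩ := hLmem y hy
      exact ⟨(c, d), rfl⟩
    refine (Nat.card_le_card_of_surjective _ hsurj).trans ?_
    rw [Nat.card_prod, Nat.card_eq_fintype_card, sq]
  have h6 := (orbit_count_top (fun y hy => hy.2) hu hc).trans (Nat.mul_le_mul h1' hL0)
  obtain ⟨k, hk'⟩ : ∃ k, q = k + 1 := ⟨q - 1, by omega⟩
  rw [Small, show Fintype.card F = k + 1 from hk', Nat.add_sub_cancel] at hk
  simp only [hk', show Fintype.card F = k + 1 from hk'] at h6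
  have e1 : (k + 1) ^ 2 - 1 = k * (k + 2) := by
    have : (k + 1) ^ 2 = k * (k + 2) + 1 := by ring
    omega
  rw [e1] at h6
  obtain ⟨X, hX⟩ : ∃ X, (k + 1) ^ (2 * m) = X + 1 := ⟨(k + 1) ^ (2 * m) - 1, by
    have := Nat.one_le_pow (2 * m) (k + 1) (by omega)
    omega⟩
  rw [hX, Nat.add_sub_cancel] at h6
  rw [hX] at hk
  have hbig : (k + 1) ^ 2 ≤ (k + 1) ^ (2 * m - 2) := Nat.pow_le_pow_right (by omega) (by omega)
  have hk2 : 2 ≤ k := by omega
  nlinarith [Nat.mul_le_mul_left X (show 2 * (k + 2) ≤ (k + 1) ^ (2 * m - 2) by nlinarith),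
    Nat.mul_le_mul_right (2 * (k + 2)) hk.le]

end Cfsg.Agent.InvChar68.MinIndexSp
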