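import Cfsg.Agent.InvChar68.MinIndexSp.Local
import Cfsg.Agent.InvChar68.MinIndexSp.Orbits
import Mathlib.GroupTheory.QuotientGroup.Basic

/-!
The minimal index of a proper subgroup of the symplectic group (helper68).
-/

set_option autoImplicit false

namespace Cfsg.Agent.InvChar68.MinIndexSp

open Cfsg Cfsg.Agent.Symplectic MulAction
open scoped Pointwise LinearAlgebra.Projectivization

variable {m : ℕ} {F : Type*} [Field F] [Fintype F]

local notation "ω" => Cfsg.sympForm m F
local notation "B" => Cfsg.Agent.Forms.sympBilin m F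

/-! ### Full vectors -/

theorem Full.smul_mem {H : Subgroup (Sp m F)} {x : Vec m F} (h : Full H x) {g : Sp m F}
    (hg : g ∈ H) : Full H (g • x) := fun c => by
  rw [← conj_tv]
  exact H.mul_mem (H.mul_mem hg (h c)) (H.inv_mem hg)

theorem Full.smul_vec {H : Subgroup (Sp m F)} {x : Vec m F} (h : Full H x) (a : F) :
    Full H (a • x) := fun c => by
  rw [tv_smul_vec]; exact h _

theorem full_zero (H : Subgroup (Sp m F)) : Full H (0 : Vec m F) := fun c => by
  have : tv (0 : Vec m F) c = 1 := eq_of_smul_eq fun x => by simp [tv_smul]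
  rw [this]; exact H.one_mem

theorem Full.combo {H : Subgroup (Sp m F)} {x y : Vec m F} (hx : Full H x) (hy : Full H y)
    (h : ω x y ≠ 0) (α β : F) : Full H (α • x + β • y) := by
  by_cases hα : α = 0
  · rw [hα, zero_smul, zero_add]; exact hy.smul_vec β
  have h1 := Full.smul_mem hx (g := tv y (β / α / ω x y)) (hy _)
  rw [tv_smul, div_mul_cancel₀ _ h] at h1
  have h2 := h1.smul_vec α
  rwa [smul_add, smul_smul, mul_div_cancel₀ _ hα] at h2

theorem eq_top_of_full {H : Subgroup (Sp m F)} (h : ∀ x : Vec m F, Full H x) : H = ⊤ := by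
  rw [eq_top_iff, ← tvGroup_empty, tvGroup, Subgroup.closure_le]
  rintro _ ⟨w, -, c, rfl⟩
  exact h w c

theorem exists_orth_both (hm : 2 ≤ m) {x y : Vec m F} (h : ω x y ≠ 0) :
    ∃ z, z ≠ 0 ∧ ω x z = 0 ∧ ω y z = 0 := by
  have hp : ω x ((ω x y)⁻¹ • y) = 1 := by rw [sympForm_smul_right, inv_mul_cancel₀ h]
  have hcard : 1 < Nat.card (perp2 x ((ω x y)⁻¹ • y)) := by
    rw [card_perp2 hp (by omega)]
    exact Nat.one_lt_pow (by omega) Fintype.one_lt_card
  haveI : Nontrivial (perp2 x ((ω x y)⁻¹ • y)) := Finite.one_lt_card_iff_nontrivial.1 hcard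
  obtain ⟨⟨z, hz⟩, hz0⟩ := exists_ne (0 : perp2 x ((ω x y)⁻¹ • y))
  refine ⟨z, fun h0 => hz0 (Subtype.ext h0), hz.1, ?_⟩
  have := hz.2
  rw [sympForm_smul_left] at this
  exact (mul_eq_zero.1 this).resolve_left (inv_ne_zero h)

/-! ### The first full vectors -/

/-- Either the orthogonal of some pair is full, or in rank two some vector is full. -/
theorem exists_full {H : Subgroup (Sp m F)} (hm : 2 ≤ m) (hq : 3 ≤ Fintype.card F)
    (hexc : ¬ (m = 2 ∧ Fintype.card F = 3)) (hk : Small H) (hne : ∃ x : Vec m F, ¬ Full H x) :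
    (∃ u v, ω u v = 1 ∧ ∀ z ∈ perp2 u v, Full H z) ∨
      (m = 2 ∧ ∃ w : Vec m F, w ≠ 0 ∧ Full H w) := by
  by_contra hcon
  rw [not_or] at hcon
  obtain ⟨hA, hB⟩ := hcon
  have hbig : ∀ u v : Vec m F, ω u v = 1 → ¬ Full H u →
      (2 : F) = 0 ∧ ∀ w ∈ perp2 u v, w ∈ Cb H u v := by
    intro u v hp hu
    have hD : Dg H u ≠ ⊤ := fun h => hu (full_iff.2 h)
    cases shape hm hq hexc hp hk hD with
    | torus hC hM a ha ha1 => exact absurd (torus_full hm hq hexc hp hC hM ha ha1) hA
    | big h2 hC => exact ⟨h2, hC⟩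
    | perp h2 x hx hx0 hC hM hm3 =>
      exfalso
      obtain ⟨g, hg⟩ := exists_perp2_pairing hp hx hx0
      obtain ⟨z, hz, hxz, hzx⟩ : ∃ z ∈ perp2 u v, ω x z = 0 ∧ ∀ a : F, z ≠ a • x := by
        by_contra h
        have hle : {y : Vec m F | y ∈ perp2 u v ∧ ω x y = 0}.ncard ≤ Fintype.card F := by
          have hsub : {y : Vec m F | y ∈ perp2 u v ∧ ω x y = 0} ⊆
              Set.range fun c : F => c • x := fun y hy => by
            by_contra hne
            exact h ⟨y, hy.1, hy.2, fun a ha => hne ⟨a, ha.symm⟩⟩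
          refine (Set.ncard_le_ncard hsub).trans ?_
          rw [Set.ncard_range_of_injective (smul_left_injective F hx0), Nat.card_eq_fintype_card]
        have h2' := card_perp_line hp hx hx0
        rw [card_perp2 hp (by omega)] at h2'
        have h3 : Fintype.card F ^ 3 ≤ Fintype.card F ^ (2 * (m - 1)) :=
          Nat.pow_le_pow_right (by omega) (by omega)
        rw [← h2'] at h3
        nlinarith [Nat.mul_le_mul_right (Fintype.card F) hle]
      obtain ⟨y, hy, hzy, hxy⟩ := exists_perp2_separating hp hx hx0 hz hzx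
      refine perp_absurd hq h2 hD (y := y)
        (fun f => hC _ (Submodule.smul_mem _ _ hy) (by rw [sympForm_smul_right, hzy, mul_zero]))
        hz ?_ (hM z hz hxz)
      rw [sympForm_swap, neg_ne_zero]
      exact hxy
    | line hm2 x hx hx0 hC hM ht =>
      have hq4 : 4 ≤ Fintype.card F := by
        by_contra hlt
        exact hexc ⟨hm2, by omega⟩
      exact absurd ⟨hm2, line_full hm2 hq4 hp hD hx hx0 hC ht⟩ hB
  have hnb : ∀ u x : Vec m F, ¬ Full H u → Full H x → x ≠ 0 → ω u x = 0 → False := by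
    intro u x hu hx hx0 hux
    have hu0 : u ≠ 0 := fun h => hu (h ▸ full_zero H)
    obtain ⟨v, hp⟩ := exists_pair hu0
    obtain ⟨h2, hC⟩ := hbig u v hp hu
    have hz : proj u v x ∈ perp2 u v := proj_mem hp x
    have hxe := eq_proj_add_of_orth (v := v) hux
    have hz0 : proj u v x ≠ 0 := by
      intro h0
      rw [h0, zero_add] at hxe
      have hc : ω x v ≠ 0 := fun h => hx0 (by rw [hxe, h, zero_smul])
      apply hu
      have := hx.smul_vec (ω x v)⁻¹
      rwa [hxe, smul_smul, sympForm_smul_left, hp, mul_one, inv_mul_cancel₀ hc, one_smul] at this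
    have hM : ∀ s, tv (proj u v x) s ∈ M0 H u v := fun s => by
      refine ⟨tv_mem_fixPair hz s, _, Submodule.smul_mem _ (s * ω x v) hz, ω x v ^ 2 * s, ?_⟩
      rw [← tv_split hz.1, ← hxe]
      exact hx s
    obtain ⟨y, hy, hyz⟩ := exists_perp2_pairing hp hz hz0
    refine perp_absurd hq h2 (fun h => hu (full_iff.2 h)) (y := y)
      (fun f => hC _ (Submodule.smul_mem _ _ hy)) hz ?_ hM
    rw [sympForm_swap, hyz]
    exact neg_ne_zero.2 one_ne_zero
  obtain ⟨u₁, hu₁⟩ := hne
  have hnone : ∀ x : Vec m F, x ≠ 0 → ¬ Full H x := by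
    intro x hx0 hx
    by_cases h : ω u₁ x = 0
    · exact hnb u₁ x hu₁ hx hx0 h
    obtain ⟨z, hz0, huz, hxz⟩ := exists_orth_both hm h
    by_cases hz : Full H z
    · exact hnb u₁ z hu₁ hz hz0 huz
    · exact hnb z x hz hx hx0 (orth_symm hxz)
  set i : Fin m := ⟨0, by omega⟩
  set j : Fin m := ⟨1, by omega⟩
  have hij : i ≠ j := by simp [i, j]
  set u : Vec m F := fI i
  set v : Vec m F := eI i
  set z : Vec m F := fI j
  set z' : Vec m F := eI j
  have huv : ω u v = 1 := sympForm_fI_eI i
  have hzz : ω z z' = 1 := sympForm_fI_eI j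
  have e1 : ω u z = 0 := sympForm_fI_fI i j
  have e2 : ω u z' = 0 := orth_symm (sympForm_eI_fI_of_ne hij.symm)
  have e3 : ω v z = 0 := sympForm_eI_fI_of_ne hij
  have e4 : ω v z' = 0 := sympForm_eI_eI i j
  have hu0 : u ≠ 0 := fI_ne_zero i
  obtain ⟨h2, hCu⟩ := hbig u v huv (hnone u hu0)
  have hget : ∀ z₁ z₂ : Vec m F, ω z₁ z₂ = 1 → z₁ ∈ perp2 u v → z₂ ∈ perp2 u v →
      qel u z₁ 0 ∈ H := by
    intro z₁ z₂ hp hz₁ hz₂
    have hz0 : z₁ ≠ 0 := fun h => by simp [h] at hp
    have hnz := hnone z₁ hz0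
    have := mutual_qel hq h2 hz₁ hz₂ hp ⟨orth_symm hz₁.1, orth_symm hz₂.1⟩
      ⟨orth_symm hz₁.2, orth_symm hz₂.2⟩ huv (fun h => hnz (full_iff.2 h)) hCu
      (hbig z₁ z₂ hp hnz).2 1
    rwa [one_smul] at this
  have hzm : z ∈ perp2 u v := ⟨e1, e3⟩
  have hzm' : z' ∈ perp2 u v := ⟨e2, e4⟩
  refine hnone u hu0 fun c => ?_
  by_cases hc : c = 0
  · rw [hc, tv_zero]; exact H.one_mem
  have hcz : c • z ∈ perp2 u v := Submodule.smul_mem _ _ hzm
  have hcz' : c⁻¹ • z' ∈ perp2 u v := Submodule.smul_mem _ _ hzm'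
  have hsum : c • z + z' ∈ perp2 u v := Submodule.add_mem _ hcz hzm'
  have k1 := hget (c • z) (c⁻¹ • z') (by
    rw [sympForm_smul_left, sympForm_smul_right, hzz, mul_one, mul_inv_cancel₀ hc]) hcz hcz'
  have k2 := hget z' z (by
    rw [sympForm_swap, hzz]; linear_combination (-1 : F) * h2) hzm' hzm
  have k3 := hget (c • z + z') (c⁻¹ • z') (by
    rw [sympForm_add_left, sympForm_smul_left, sympForm_smul_right, sympForm_smul_right, hzz,
      sympForm_self, mul_one, mul_zero, add_zero, mul_inv_cancel₀ hc]) hsum hcz'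
  have h := H.mul_mem (H.mul_mem k1 k2) (H.inv_mem k3)
  rw [qel_mul hcz.1 hzm'.1, qel_inv hsum.1, qel_mul hsum.1 (Submodule.neg_mem (perp2 u v) hsum).1,
    add_neg_cancel, qel_zero, form_neg_left, sympForm_self, sympForm_swap, sympForm_smul_left,
    hzz] at h
  convert h using 2
  linear_combination c * h2

/-! ### Subspaces with full complement of the radical -/

/-- Every vector of `Y` outside its radical is full. -/
def Good (H : Subgroup (Sp m F)) (Y : Submodule F (Vec m F)) : Prop :=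
  ∀ y ∈ Y, (∃ y' ∈ Y, ω y y' ≠ 0) → Full H y

/-- The choice of a decomposition in the extension step. -/
theorem exists_avoid (hq : 3 ≤ Fintype.card F) {Y : Submodule F (Vec m F)} {a b : Vec m F}
    (ha : a ∈ Y) (hb : b ∈ Y) (hab : ω a b = 1) (f g : Vec m F) (c : F) (y' : Vec m F)
    (hf : ∃ v ∈ Y, ω v f ≠ 0) (hg : (∃ v ∈ Y, ω v g ≠ 0) ∨ c ≠ 0) :
    ∃ v ∈ Y, ω v f ≠ 0 ∧ (∃ w ∈ Y, ω v w ≠ 0) ∧ (∃ w ∈ Y, ω (y' - v) w ≠ 0) ∧ ω v g ≠ c := by
  classical
  set q := Fintype.card F with hqdef
  set n := Nat.card Y with hn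
  let R : AddSubgroup Y :=
    { carrier := {v | ∀ w ∈ Y, ω (v : Vec m F) w = 0}
      add_mem' := fun hv hv' w hw => by
        rw [Submodule.coe_add, sympForm_add_left, hv w hw, hv' w hw, add_zero]
      zero_mem' := fun w _ => by rw [Submodule.coe_zero, sympForm_zero_left]
      neg_mem' := fun {v} hv w hw => by
        rw [Submodule.coe_neg, ← neg_one_smul F (v : Vec m F), sympForm_smul_left, hv w hw, mul_zero] }
  have hR : Nat.card R * (q * q) ≤ n := by
    rw [hqdef, ← Nat.card_eq_fintype_card, ← Nat.card_prod, ← Nat.card_prod, hn]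
    refine Nat.card_le_card_of_injective
      (fun p => p.1.1 + p.2.1 • (⟨a, ha⟩ : Y) + p.2.2 • (⟨b, hb⟩ : Y)) ?_
    rintro ⟨⟨r, hr⟩, s, t⟩ ⟨⟨r', hr'⟩, s', t'⟩ h
    have h' : (r : Vec m F) + s • a + t • b = (r' : Vec m F) + s' • a + t' • b :=
      congrArg Subtype.val h
    have h1 := congrArg (fun x => ω x b) h'
    have h2 := congrArg (fun x => ω a x) h'
    simp only [sympForm_add_left, sympForm_add_right, sympForm_smul_left, sympForm_smul_right,
      sympForm_self, hab, hr b hb, hr' b hb, orth_symm (hr a ha), orth_symm (hr' a ha)] at h1 h2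
    obtain rfl : s = s' := by linear_combination h1
    obtain rfl : t = t' := by linear_combination h2
    simp only [Prod.mk.injEq, Subtype.mk.injEq, and_true]
    exact Subtype.ext (add_right_cancel (add_right_cancel h'))
  have hfib : ∀ (h : Vec m F), (∃ v ∈ Y, ω v h ≠ 0) → ∀ d : F,
      {v : Y | ω (v : Vec m F) h = d}.ncard * q ≤ n := by
    rintro h ⟨v₀, hv₀, hne⟩ d
    rw [hqdef, ← Nat.card_eq_fintype_card, ← Nat.card_coe_set_eq, ← Nat.card_prod, hn]
    refine Nat.card_le_card_of_injective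
      (fun p => p.1.1 + p.2 • (⟨v₀, hv₀⟩ : Y)) ?_
    rintro ⟨⟨v, hv⟩, s⟩ ⟨⟨v', hv'⟩, s'⟩ he
    have h1 := congrArg (fun x : Y => ω (x : Vec m F) h) he
    simp only [Submodule.coe_add, Submodule.coe_smul, sympForm_add_left, sympForm_smul_left,
      show ω (v : Vec m F) h = d from hv, show ω (v' : Vec m F) h = d from hv', add_right_inj] at h1
    obtain rfl : s = s' := mul_right_cancel₀ hne h1
    simp only [Prod.mk.injEq, Subtype.mk.injEq, and_true]
    exact add_right_cancel he
  by_contra hcon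
  have hcover : (Set.univ : Set Y) ⊆ {v : Y | ω (v : Vec m F) f = 0} ∪
      {v : Y | ω (v : Vec m F) g = c} ∪ (R : Set Y) ∪ {v : Y | ∀ w ∈ Y, ω (y' - v) w = 0} := by
    intro v _
    by_contra hv
    simp only [Set.mem_union, Set.mem_setOf_eq, SetLike.mem_coe, not_or] at hv
    obtain ⟨⟨⟨h1, h2⟩, h3⟩, h4⟩ := hv
    refine hcon ⟨v, v.2, h1, ?_, ?_, h2⟩
    · by_contra h
      exact h3 fun w hw => by
        by_contra hne
        exact h ⟨w, hw, hne⟩
    · by_contra h
      exact h4 fun w hw => by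
        by_contra hne
        exact h ⟨w, hw, hne⟩
  have h4 : {v : Y | ∀ w ∈ Y, ω (y' - v) w = 0}.ncard ≤ Nat.card R := by
    rcases Set.eq_empty_or_nonempty {v : Y | ∀ w ∈ Y, ω (y' - v) w = 0} with h | ⟨v₁, hv₁⟩
    · rw [h, Set.ncard_empty]; exact Nat.zero_le _
    rw [← Nat.card_coe_set_eq]
    refine Nat.card_le_card_of_injective (fun v => (⟨v.1 - v₁, fun w hw => ?_⟩ : R)) ?_
    · have := v.2 w hw
      have := hv₁ w hw
      simp only [Submodule.coe_sub, sympForm_sub_left] at *
      linear_combination (-1 : F) * ‹ω y' w - ω (v.1 : Vec m F) w = 0› + this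
    · intro x x' h
      exact Subtype.ext (sub_left_injective (congrArg Subtype.val h :))
  have hg' : {v : Y | ω (v : Vec m F) g = c}.ncard * q ≤ n := by
    by_cases hgz : ∃ v ∈ Y, ω v g ≠ 0
    · exact hfib g hgz c
    · have : {v : Y | ω (v : Vec m F) g = c} = ∅ := Set.eq_empty_iff_forall_notMem.2 fun v hv =>
        hgz ⟨v, v.2, fun h0 => (hg.resolve_left hgz) (hv.symm.trans h0)⟩
      rw [this, Set.ncard_empty, zero_mul]
      exact Nat.zero_le _
  have hle := (Set.ncard_le_ncard hcover).trans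
    ((Set.ncard_union_le _ _).trans (Nat.add_le_add_right ((Set.ncard_union_le _ _).trans
      (Nat.add_le_add_right (Set.ncard_union_le _ _) _)) _))
  rw [Set.ncard_univ, ← hn, ← Nat.card_coe_set_eq (R : Set Y)] at hle
  have hf' := hfib f hf 0
  have hn0 : 0 < n := Nat.card_pos
  have hsum : n * (q * q) ≤ 2 * n * q + 2 * n := by
    calc n * (q * q) ≤ ({v : Y | ω (v : Vec m F) f = 0}.ncard +
          {v : Y | ω (v : Vec m F) g = c}.ncard + Nat.card (R : Set Y) +
          {v : Y | ∀ w ∈ Y, ω (y' - v) w = 0}.ncard) * (q * q) := Nat.mul_le_mul_right _ hle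
      _ ≤ ({v : Y | ω (v : Vec m F) f = 0}.ncard * q) * q +
          ({v : Y | ω (v : Vec m F) g = c}.ncard * q) * q + Nat.card R * (q * q) +
          Nat.card R * (q * q) := by
            have e : Nat.card (R : Set Y) = Nat.card R := rfl
            rw [e, ← mul_assoc _ q q, ← mul_assoc _ q q]
            nlinarith [Nat.mul_le_mul_right (q * q) h4]
      _ ≤ n * q + n * q + n + n := by gcongr
      _ = 2 * n * q + 2 * n := by ring
  nlinarith [Nat.mul_le_mul_left n (Nat.mul_le_mul_left q hq)]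

theorem Good.extend (hq : 3 ≤ Fintype.card F) {H : Subgroup (Sp m F)}
    {Y : Submodule F (Vec m F)} (hY : Good H Y) {a b : Vec m F} (ha : a ∈ Y) (hb : b ∈ Y)
    (hab : ω a b = 1) {y : Vec m F} (hy : Full H y) (hf : ∃ v ∈ Y, ω v y ≠ 0) :
    Good H (Y ⊔ Submodule.span F {y}) := by
  have key : ∀ y' ∈ Y, ∀ μ : F, μ ≠ 0 →
      ((∃ w ∈ Y, ω w (y' + μ • y) ≠ 0) ∨ ω (y' + μ • y) y ≠ 0) → Full H (y' + μ • y) := by
    intro y' hy' μ hμ hor
    obtain ⟨v, hv, hvy, hvr, hur, hvc⟩ := exists_avoid hq ha hb hab y (y' + μ • y)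
      (μ * ω y' y) y' hf (hor.imp id fun h => by
        refine mul_ne_zero hμ ?_
        rwa [sympForm_add_left, sympForm_smul_left, sympForm_self, mul_zero, add_zero] at h)
    have hu : Full H (y' - v) := hY _ (Y.sub_mem hy' hv) hur
    have hw : Full H ((1 : F) • v + μ • y) := (hY v hv hvr).combo hy hvy 1 μ
    have hne : ω (y' - v) ((1 : F) • v + μ • y) ≠ 0 := by
      rw [one_smul]
      intro h0
      apply hvc
      rw [sympForm_sub_left, sympForm_add_right, sympForm_add_right, sympForm_smul_right,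
        sympForm_smul_right, sympForm_self] at h0
      rw [sympForm_add_right, sympForm_smul_right, sympForm_swap v y']
      linear_combination (-1 : F) * h0
    have := hu.combo hw hne 1 1
    rwa [one_smul, one_smul, one_smul, ← add_assoc, sub_add_cancel] at this
  intro z hz hzn
  obtain ⟨y', hy', z', hz', rfl⟩ := Submodule.mem_sup.1 hz
  obtain ⟨μ, rfl⟩ := Submodule.mem_span_singleton.1 hz'
  obtain ⟨z₁, hz₁, hne⟩ := hzn
  obtain ⟨y₁, hy₁, z₂, hz₂, rfl⟩ := Submodule.mem_sup.1 hz₁
  obtain ⟨ν, rfl⟩ := Submodule.mem_span_singleton.1 hz₂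
  by_cases hμ : μ = 0
  · subst hμ
    rw [zero_smul, add_zero] at hne ⊢
    by_cases hrad : ∃ w ∈ Y, ω y' w ≠ 0
    · exact hY y' hy' hrad
    have h0 : ∀ w ∈ Y, ω y' w = 0 := fun w hw => by
      by_contra h
      exact hrad ⟨w, hw, h⟩
    have hy'y : ω y' y ≠ 0 := by
      rw [sympForm_add_right, h0 y₁ hy₁, zero_add, sympForm_smul_right] at hne
      exact right_ne_zero_of_mul hne
    have hw : Full H (y' + (1 : F) • y) := key y' hy' 1 one_ne_zero (Or.inr (by
      rwa [one_smul, sympForm_add_left, sympForm_self, add_zero]))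
    have := hw.combo hy (by rwa [one_smul, sympForm_add_left, sympForm_self, add_zero]) 1 (-1)
    rwa [one_smul, one_smul, neg_one_smul, add_neg_cancel_right] at this
  · refine key y' hy' μ hμ ?_
    by_contra h
    rw [not_or, not_ne_iff] at h
    apply hne
    rw [sympForm_add_right, sympForm_smul_right, h.2, mul_zero, add_zero]
    refine orth_symm ?_
    by_contra h1
    exact h.1 ⟨y₁, hy₁, h1⟩

theorem finrank_vec : Module.finrank F (Vec m F) = 2 * m := by
  rw [Module.finrank_fintype_fun_eq_card, Fintype.card_sum, Fintype.card_fin, two_mul]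

theorem mem_orth {Y : Submodule F (Vec m F)} {x : Vec m F} :
    x ∈ (B).orthogonal Y ↔ ∀ y ∈ Y, ω y x = 0 := by
  refine forall₂_congr fun y _ => ?_
  rw [← Cfsg.Agent.Forms.sympBilin_apply]

theorem finrank_orth (Y : Submodule F (Vec m F)) :
    Module.finrank F ((B).orthogonal Y) = 2 * m - Module.finrank F Y := by
  rw [LinearMap.BilinForm.finrank_orthogonal Cfsg.Agent.Forms.sympBilin_nondegenerate, finrank_vec]

theorem finrank_perp2 (hm : 1 ≤ m) {u v : Vec m F} (hp : ω u v = 1) :
    Module.finrank F (perp2 u v) = 2 * (m - 1) := by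
  have h := card_perp2 hp hm
  rw [Module.natCard_eq_pow_finrank (K := F), Nat.card_eq_fintype_card] at h
  exact Nat.pow_right_injective (show 2 ≤ Fintype.card F from Fintype.one_lt_card) h

theorem ncard_smul' (g : Sp m F) (S : Set (Vec m F)) : (g • S).ncard = S.ncard :=
  Set.ncard_image_of_injective S (MulAction.injective g)

/-- A subgroup of small index with a full orthogonal of a pair is the whole group. -/
theorem closure_step {H : Subgroup (Sp m F)} (hm : 2 ≤ m) (hq : 3 ≤ Fintype.card F)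
    (hk : Small H) (hne : ∃ x : Vec m F, ¬ Full H x) {u v : Vec m F} (hp : ω u v = 1)
    (hS : ∀ z ∈ perp2 u v, Full H z) : False := by
  classical
  set Y0 := perp2 u v with hY0
  have hgood0 : Good H Y0 := fun y hy _ => hS y hy
  haveI : Nonempty {Y : Submodule F (Vec m F) // Good H Y ∧ Y0 ≤ Y} := ⟨⟨Y0, hgood0, le_rfl⟩⟩
  obtain ⟨⟨Y, hY, hle⟩, hmax⟩ := Finite.exists_max
    (fun Y : {Y : Submodule F (Vec m F) // Good H Y ∧ Y0 ≤ Y} => Module.finrank F Y.1)
  obtain ⟨x₀, hx₀, hx₀0⟩ : ∃ x ∈ Y0, x ≠ 0 := by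
    haveI : Nontrivial Y0 := by
      refine Module.nontrivial_of_finrank_pos (R := F) ?_
      rw [finrank_perp2 (by omega) hp]
      omega
    obtain ⟨x, hx⟩ := exists_ne (0 : Y0)
    exact ⟨x, x.2, fun h => hx (Subtype.ext h)⟩
  obtain ⟨y₀, hy₀, hxy₀⟩ := exists_perp2_pairing hp hx₀ hx₀0
  have hdich : ∀ w, Full H w → w ∈ Y ∨ w ∈ (B).orthogonal Y := by
    intro w hw
    by_contra h
    rw [not_or, mem_orth] at h
    obtain ⟨hwY, hwo⟩ := h
    have hf : ∃ y ∈ Y, ω y w ≠ 0 := by
      by_contra h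
      exact hwo fun y hy => by
        by_contra hne
        exact h ⟨y, hy, hne⟩
    have hG := hY.extend hq (hle hx₀) (hle hy₀) hxy₀ hw hf
    have hlt : Y < Y ⊔ Submodule.span F {w} := left_lt_sup.2 fun h =>
      hwY (h (Submodule.mem_span_singleton_self w))
    have := hmax ⟨_, hG, hle.trans le_sup_left⟩
    exact absurd this (not_le.2 (Submodule.finrank_lt_finrank_of_lt hlt))
  have hrank0 := finrank_perp2 (by omega) hp (m := m) (F := F)
  have hge : 2 * (m - 1) ≤ Module.finrank F Y := hrank0 ▸ Submodule.finrank_mono hle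
  have hYle : Module.finrank F Y ≤ 2 * m := finrank_vec (m := m) (F := F) ▸ Submodule.finrank_le Y
  rcases (show Module.finrank F Y = 2 * m ∨ Module.finrank F Y = 2 * m - 1 ∨
      Module.finrank F Y = 2 * (m - 1) by omega) with h | h | h
  · -- everything
    have htop : Y = ⊤ := Submodule.eq_top_of_finrank_eq (by rw [h, finrank_vec])
    obtain ⟨x, hx⟩ := hne
    refine hx (hY x (htop ▸ Submodule.mem_top) ?_)
    have hx0 : x ≠ 0 := fun h => hx (h ▸ full_zero H)
    obtain ⟨y, hy⟩ := exists_pair hx0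
    exact ⟨y, htop ▸ Submodule.mem_top, by rw [hy]; exact one_ne_zero⟩
  · -- a hyperplane
    have hr : Module.finrank F ((B).orthogonal Y) = 1 := by rw [finrank_orth, h]; omega
    obtain ⟨⟨z, hz⟩, hz0, hspan⟩ := finrank_eq_one_iff'.1 hr
    have hz0' : z ≠ 0 := fun h => hz0 (Subtype.ext h)
    have hzline : ∀ w ∈ (B).orthogonal Y, ∃ c : F, w = c • z := fun w hw => by
      obtain ⟨c, hc⟩ := hspan ⟨w, hw⟩
      exact ⟨c, (congrArg Subtype.val hc).symm⟩
    have hzY : z ∈ Y := by
      have hrefl : (B).IsRefl := Cfsg.Agent.Forms.sympBilin_isAlt.isRefl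
      rw [← LinearMap.BilinForm.orthogonal_orthogonal
        Cfsg.Agent.Forms.sympBilin_nondegenerate hrefl Y, mem_orth]
      intro w hw
      obtain ⟨c, rfl⟩ := hzline w hw
      rw [sympForm_smul_left, sympForm_self, mul_zero]
    have hin : ∀ w, Full H w → w ∈ Y := fun w hw => by
      rcases hdich w hw with h | h
      · exact h
      · obtain ⟨c, rfl⟩ := hzline w h
        exact Y.smul_mem c hzY
    have hmapY : ∀ g ∈ H, ∀ y ∈ Y, g • y ∈ Y := by
      intro g hg y hy
      by_cases hn : ∃ y' ∈ Y, ω y y' ≠ 0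
      · exact hin _ ((hY y hy hn).smul_mem hg)
      have h1 : ∀ w ∈ Y, ω y w = 0 := fun w hw => by
        by_contra hne'
        exact hn ⟨w, hw, hne'⟩
      have hsum : Full H (y + x₀) := hY _ (Y.add_mem hy (hle hx₀)) ⟨y₀, hle hy₀, by
        rw [sympForm_add_left, h1 y₀ (hle hy₀), zero_add, hxy₀]; exact one_ne_zero⟩
      have h2 := Y.sub_mem (hin _ (hsum.smul_mem hg)) (hin _ ((hS x₀ hx₀).smul_mem hg))
      rwa [smul_add, add_sub_cancel_right] at h2
    refine index_point (by omega) hk hz0' fun g hg => ?_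
    refine hzline _ (mem_orth.2 fun y hy => ?_)
    rw [← smul_inv_smul g y, sympForm_smul_smul]
    exact mem_orth.1 hz _ (hmapY _ (H.inv_mem hg) y hy)
  · -- the orthogonal of the pair
    have hYeq : Y = Y0 := (Submodule.eq_of_le_of_finrank_eq hle (hrank0.trans h.symm)).symm
    subst hYeq
    set L := Submodule.span F {u, v} with hL
    have hLo : ∀ w ∈ L, w ∈ (B).orthogonal Y0 := fun w hw => by
      obtain ⟨c, d, rfl⟩ := Submodule.mem_span_pair.1 hw
      refine mem_orth.2 fun y hy => ?_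
      rw [sympForm_add_right, sympForm_smul_right, sympForm_smul_right, orth_symm hy.1,
        orth_symm hy.2, mul_zero, mul_zero, add_zero]
    have hoL : ∀ w ∈ (B).orthogonal Y0, w ∈ L := fun w hw => by
      have hpw : proj u v w = 0 := perp2_eq_zero hp (proj_mem hp w) fun y hy => by
        have := mem_orth.1 hw y hy
        rw [sympForm_swap, neg_eq_zero] at this
        rw [eq_proj_add u v w, sympForm_add_left, sympForm_add_left, sympForm_smul_left,
          sympForm_smul_left, hy.1, hy.2, mul_zero, mul_zero, add_zero, add_zero] at this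
        exact this
      rw [eq_proj_add u v w, hpw, zero_add]
      exact Submodule.mem_span_pair.2 ⟨_, _, rfl⟩
    refine index_decomposition hm hq hk hp (Y0 : Set (Vec m F)) fun g hg => ?_
    have hdich' : (∀ y ∈ Y0, g • y ∈ Y0) ∨ (∀ y ∈ Y0, g • y ∈ L) := by
      by_contra hcon
      rw [not_or] at hcon
      obtain ⟨h1, h2⟩ := hcon
      push_neg at h1 h2
      obtain ⟨y₁, hy₁, h1⟩ := h1
      obtain ⟨y₂, hy₂, h2⟩ := h2
      have k : ∀ y ∈ Y0, g • y ∈ Y0 ∨ g • y ∈ L := fun y hy =>
        (hdich _ ((hS y hy).smul_mem hg)).imp_right (hoL _)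
      have k1 := (k y₁ hy₁).resolve_left h1
      have k2 := (k y₂ hy₂).resolve_right h2
      have k3 := k _ (Y0.add_mem hy₁ hy₂)
      rw [smul_add] at k3
      rcases k3 with k3 | k3
      · exact h1 (by have := Y0.sub_mem k3 k2; rwa [add_sub_cancel_right] at this)
      · exact h2 (by have := L.sub_mem k3 k1; rwa [add_sub_cancel_left] at this)
    rcases hdich' with hd | hd
    · -- the decomposition is preserved
      left
      have hback : ∀ y ∈ Y0, g⁻¹ • y ∈ Y0 := fun y hy => by
        obtain ⟨y', hy', he⟩ :=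
          (smul_set_eq_of_subset (Y := (Y0 : Set (Vec m F))) hd).ge hy
        rw [← he, inv_smul_smul]
        exact hy'
      refine smul_set_eq_of_subset fun w hw => hoL _ (mem_orth.2 fun y hy => ?_)
      rw [← smul_inv_smul g y, sympForm_smul_smul]
      exact mem_orth.1 (hLo w hw) _ (hback y hy)
    · right
      rw [Set.mem_singleton_iff]
      -- here `m = 2` and `g` exchanges the two planes
      have hLle : Nat.card L ≤ Fintype.card F ^ 2 := by
        have hsurj : Function.Surjective fun p : F × F =>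
            (⟨p.1 • u + p.2 • v, Submodule.mem_span_pair.2 ⟨_, _, rfl⟩⟩ : L) := fun ⟨y, hy⟩ => by
          obtain ⟨c, d, rfl⟩ := Submodule.mem_span_pair.1 hy
          exact ⟨(c, d), rfl⟩
        refine (Nat.card_le_card_of_surjective _ hsurj).trans ?_
        rw [Nat.card_prod, Nat.card_eq_fintype_card, sq]
      have hYge : Fintype.card F ^ 2 ≤ Nat.card Y0 := by
        rw [card_perp2 hp (by omega)]
        exact Nat.pow_le_pow_right (by omega) (by omega)
      have heq : g • (Y0 : Set (Vec m F)) = (L : Set (Vec m F)) := by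
        refine Set.eq_of_subset_of_ncard_le ?_ ?_
        · rintro _ ⟨y, hy, rfl⟩
          exact hd y hy
        · rw [ncard_smul', ← Nat.card_coe_set_eq, ← Nat.card_coe_set_eq]
          exact hLle.trans hYge
      have hsub : g • (L : Set (Vec m F)) ⊆ (Y0 : Set (Vec m F)) := by
        rintro _ ⟨w, hw, rfl⟩
        have ho : ∀ y ∈ Y0, ω (g • w) (g • y) = 0 := fun y hy => by
          rw [sympForm_smul_smul]
          exact orth_symm (mem_orth.1 (hLo w hw) y hy)
        have horth : ∀ l ∈ L, ω (g • w) l = 0 := fun l hl => by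
          obtain ⟨y, hy, rfl⟩ := heq.ge hl
          exact ho y hy
        exact ⟨orth_symm (horth u (Submodule.subset_span (by simp))),
          orth_symm (horth v (Submodule.subset_span (by simp)))⟩
      refine Set.eq_of_subset_of_ncard_le hsub ?_
      rw [ncard_smul', ← heq, ncard_smul']

/-- Rank two: one full vector suffices. -/
theorem rank_two_step {H : Subgroup (Sp m F)} (hm : m = 2) (hq : 3 ≤ Fintype.card F)
    (hk : Small H) (hne : ∃ x : Vec m F, ¬ Full H x) {w : Vec m F} (hw : w ≠ 0)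
    (hwS : Full H w) : False := by
  by_cases hpair : ∃ x y, Full H x ∧ Full H y ∧ ω x y ≠ 0
  · obtain ⟨x, y₁, hx, hy₁, hxy₁⟩ := hpair
    obtain ⟨y, hy, hxy⟩ : ∃ y, Full H y ∧ ω x y = 1 :=
      ⟨_, hy₁.smul_vec (ω x y₁)⁻¹, by rw [sympForm_smul_right, inv_mul_cancel₀ hxy₁]⟩
    obtain ⟨u', hu', hu'0⟩ : ∃ r ∈ perp2 x y, r ≠ 0 := by
      haveI : Nontrivial (perp2 x y) := by
        refine Module.nontrivial_of_finrank_pos (R := F) ?_
        rw [finrank_perp2 (by omega) hxy]
        omega
      obtain ⟨r, hr⟩ := exists_ne (0 : perp2 x y)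
      exact ⟨r, r.2, fun h => hr (Subtype.ext h)⟩
    obtain ⟨v', hv', hp⟩ := exists_perp2_pairing hxy hu' hu'0
    refine closure_step (by omega) hq hk hne hp fun r hr => ?_
    have h1 : ω u' (proj x y r) = 0 := by
      rw [proj, sympForm_sub_right, sympForm_sub_right, sympForm_smul_right, sympForm_smul_right,
        hr.1, orth_symm hu'.1, orth_symm hu'.2]
      ring
    obtain ⟨c, hc⟩ := perp_line_eq hm hxy hu' hu'0 (proj_mem hxy r) h1
    have h2 : ω v' (proj x y r) = 0 := by
      rw [proj, sympForm_sub_right, sympForm_sub_right, sympForm_smul_right, sympForm_smul_right,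
        hr.2, orth_symm hv'.1, orth_symm hv'.2]
      ring
    rw [hc, sympForm_smul_right, sympForm_swap, hp, mul_neg, mul_one, neg_eq_zero] at h2
    rw [eq_proj_add x y r, hc, h2, zero_smul, zero_add]
    exact hx.combo hy (by rw [hxy]; exact one_ne_zero) _ _
  have horth : ∀ x y, Full H x → Full H y → ω x y = 0 := fun x y hx hy => by
    by_contra h
    exact hpair ⟨x, y, hx, hy, h⟩
  by_cases hline : ∀ x, Full H x → ∃ c : F, x = c • w
  · exact index_point (by omega) hk hw fun g hg => hline _ (hwS.smul_mem hg)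
  obtain ⟨b, hb, hbw⟩ : ∃ b, Full H b ∧ ∀ c : F, b ≠ c • w := by
    by_contra h
    exact hline fun x hx => by
      by_contra h'
      exact h ⟨x, hx, fun c hc => h' ⟨c, hc⟩⟩
  have hwb := horth w b hwS hb
  set U := Submodule.span F {w, b}
  have hUo : U ≤ (B).orthogonal U := fun x hx => mem_orth.2 fun y hy => by
    obtain ⟨c, d, rfl⟩ := Submodule.mem_span_pair.1 hx
    obtain ⟨c', d', rfl⟩ := Submodule.mem_span_pair.1 hy
    simp only [sympForm_add_left, sympForm_add_right, sympForm_smul_left, sympForm_smul_right,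
      sympForm_self, hwb, orth_symm hwb, mul_zero, add_zero]
  have hin : ∀ x, Full H x → x ∈ U := by
    intro x hx
    have hU2 : 2 ≤ Module.finrank F U := by
      have hlt : Submodule.span F {w} < U := by
        refine lt_of_le_of_ne (Submodule.span_mono (by simp)) fun h => ?_
        have hb' : b ∈ Submodule.span F {w} := h ▸ Submodule.subset_span (by simp)
        obtain ⟨c, hc⟩ := Submodule.mem_span_singleton.1 hb'
        exact hbw c hc.symm
      have := Submodule.finrank_lt_finrank_of_lt hlt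
      rw [finrank_span_singleton hw] at this
      omega
    have heq : U = (B).orthogonal U := Submodule.eq_of_le_of_finrank_le hUo (by
      rw [finrank_orth]; omega)
    rw [heq, mem_orth]
    intro y hy
    obtain ⟨c, d, rfl⟩ := Submodule.mem_span_pair.1 hy
    rw [sympForm_add_left, sympForm_smul_left, sympForm_smul_left, horth w x hwS hx,
      horth b x hb hx, mul_zero, mul_zero, add_zero]
  refine index_line hm hk hw hwb hbw fun g hg y hy => ?_
  obtain ⟨c, d, rfl⟩ := Submodule.mem_span_pair.1 hy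
  rw [smul_span_pair]
  exact U.add_mem (U.smul_mem _ (hin _ (hwS.smul_mem hg))) (U.smul_mem _ (hin _ (hb.smul_mem hg)))

/-- A subgroup of small index is the whole symplectic group. -/
theorem eq_top_of_small {H : Subgroup (Sp m F)} (hm : 2 ≤ m) (hq : 3 ≤ Fintype.card F)
    (hexc : ¬ (m = 2 ∧ Fintype.card F = 3)) (hk : Small H) : H = ⊤ := by
  refine eq_top_of_full ?_
  by_contra hne
  push_neg at hne
  rcases exists_full hm hq hexc hk hne with ⟨u, v, hp, hS⟩ | ⟨hm2, w, hw, hwS⟩
  · exact closure_step hm hq hk hne hp hS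
  · exact rank_two_step hm2 hq hk hne hw hwS

end Cfsg.Agent.InvChar68.MinIndexSp
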