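import Cfsg.Agent.InvChar68.MinIndexSp.Cases
import Mathlib.RingTheory.IntegralDomain

/-!
Consequences of the shapes at a non-full point: full vectors (helper68).
-/

set_option autoImplicit false

namespace Cfsg.Agent.InvChar68.MinIndexSp

open Cfsg Cfsg.Agent.Symplectic MulAction
open scoped Pointwise commutatorElement

variable {m : ℕ} {F : Type*} [Field F] [Fintype F]

local notation "ω" => Cfsg.sympForm m F

theorem qel_smul_self {u w : Vec m F} (h : ω u w = 0) (t : F) : qel u w t • u = u :=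
  qel_fix h t h (sympForm_self u)

/-- A multiplier of a subgroup of a finite group can be cancelled. -/
theorem mem_of_mul_mem {D : AddSubgroup F} {c t : F} (hc : c ≠ 0) (hD : ∀ d ∈ D, c * d ∈ D)
    (ht : c * t ∈ D) : t ∈ D := by
  have hinj : Function.Injective (fun d : D => (⟨c * d, hD d d.2⟩ : D)) := fun a b h =>
    Subtype.ext (mul_left_cancel₀ hc (congrArg Subtype.val h :))
  obtain ⟨d, hd⟩ := Finite.injective_iff_surjective.1 hinj ⟨_, ht⟩
  exact mul_left_cancel₀ hc (congrArg Subtype.val hd :) ▸ d.2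

theorem form_neg_left (a b : Vec m F) : ω (-a) b = -ω a b := by
  rw [← neg_one_smul F a, sympForm_smul_left, neg_one_mul]

/-! ### Conjugation -/

/-- The conjugate `g H g⁻¹`. -/
def conjH (H : Subgroup (Sp m F)) (g : Sp m F) : Subgroup (Sp m F) :=
  H.comap (MulAut.conj g⁻¹).toMonoidHom

theorem mem_conjH {H : Subgroup (Sp m F)} {g k : Sp m F} : k ∈ conjH H g ↔ g⁻¹ * k * g ∈ H := by
  simp [conjH]

theorem conj_mem_conjH {H : Subgroup (Sp m F)} (g : Sp m F) {k : Sp m F} (hk : k ∈ H) :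
    g * k * g⁻¹ ∈ conjH H g := by
  rw [mem_conjH]; simpa [mul_assoc] using hk

theorem full_of_conj {H : Subgroup (Sp m F)} {g : Sp m F} {z : Vec m F}
    (h : ∀ c, tv z c ∈ conjH H g) : Full H (g⁻¹ • z) := fun c => by
  have := mem_conjH.1 (h c)
  rw [← conj_tv, inv_inv]
  exact this

/-- Conjugation by the radical keeps the parameters of `H` at a point. -/
theorem radical_conj {H : Subgroup (Sp m F)} {u v y : Vec m F} (hy : y ∈ perp2 u v) (s : F) :
    (∀ w, w ∈ Cb (conjH H (qel u y s)) u v → w ∈ Cb H u v) ∧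
      (∀ w, w ∈ Cb H u v → w ∈ Cb (conjH H (qel u y s)) u v) ∧
      Dg (conjH H (qel u y s)) u = Dg H u ∧
      ∀ {l : Sp m F} {a : Fˣ}, IsLevi u v l a → Lifts H u v l →
        Lifts (conjH H (qel u y s)) u v l := by
  have hy' := Submodule.neg_mem (perp2 u v) hy
  refine ⟨?_, ?_, ?_, ?_⟩
  · rintro w ⟨hw, t, ht⟩
    refine ⟨hw, t + 2 * ω w (-y), ?_⟩
    rw [← qel_conj_qel hy'.1 hw.1 (-s), ← qel_inv hy.1, inv_inv]
    exact mem_conjH.1 ht
  · rintro w ⟨hw, t, ht⟩
    exact ⟨hw, _, qel_conj_qel hy.1 hw.1 s t ▸ conj_mem_conjH _ ht⟩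
  · ext d
    have e : (qel u y s)⁻¹ • u = u := inv_smul_eq_iff.2 (qel_smul_self hy.1 s).symm
    rw [mem_Dg, mem_Dg, mem_conjH]
    have h := conj_tv (qel u y s)⁻¹ u d
    rw [inv_inv, e] at h
    rw [h]
  · rintro l a hl ⟨w, hw, t, ht⟩
    have h := conj_mem_conjH (qel u y s) ht
    rw [qel_inv hy.1, ← mul_assoc, mul_assoc _ l, isLevi_conj_qel hl hy'.1, ← mul_assoc,
      qel_mul hy.1 hw.1, qel_mul (Submodule.add_mem (perp2 u v) hy hw).1
        (Submodule.smul_mem (perp2 u v) _ (hl.smul_mem hy')).1] at h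
    exact ⟨_, Submodule.add_mem _ (Submodule.add_mem _ hy hw)
      (Submodule.smul_mem _ _ (hl.smul_mem hy')), _, h⟩

theorem dd_comm {u v : Vec m F} (hp : ω u v = 1) (a : Fˣ) {l : Sp m F} (hl : l ∈ fixPair u v) :
    l * dd hp a = dd hp a * l := by
  obtain ⟨h1, h2⟩ := mem_fixPair.1 hl
  have e1 : ∀ x, ω (l • x) v = ω x v := fun x => by
    conv_lhs => rw [← h2, sympForm_smul_smul]
  have e2 : ∀ x, ω u (l • x) = ω u x := fun x => by
    conv_lhs => rw [← h1, sympForm_smul_smul]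
  refine eq_of_smul_eq fun x => ?_
  rw [mul_smul, mul_smul, dd_smul, dd_smul, smul_add, smul_add, smul_comm l, smul_comm l, h1, h2,
    e1, e2]

/-- Removing the non-central part of a lift of a torus element. -/
theorem exists_conj_torus {H : Subgroup (Sp m F)} {u v : Vec m F} (hp : ω u v = 1) {a : Fˣ}
    (ha : a ≠ 1) (h : Lifts H u v (dd hp a)) :
    ∃ y ∈ perp2 u v, ∃ t, tv u t * dd hp a ∈ conjH H (qel u y 0) := by
  obtain ⟨w, hw, t, ht⟩ := h
  have ha' : (a : F) - 1 ≠ 0 := by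
    rw [sub_ne_zero]
    exact fun h => ha (Units.ext h)
  set y := ((a : F) - 1)⁻¹ • w with hy
  have hy1 : y ∈ perp2 u v := Submodule.smul_mem _ _ hw
  have hy2 := Submodule.neg_mem (perp2 u v) hy1
  have h := conj_mem_conjH (qel u y 0) ht
  rw [qel_inv hy1.1, ← mul_assoc, mul_assoc _ (dd hp a), isLevi_conj_qel (dd_isLevi hp a) hy2.1,
    dd_smul_perp hp a hy2, ← mul_assoc, qel_mul hy1.1 hw.1,
    qel_mul (Submodule.add_mem (perp2 u v) hy1 hw).1
      (Submodule.smul_mem (perp2 u v) _ hy2).1] at h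
  have e : y + w + (a : F) • -y = 0 := by
    have : w = ((a : F) - 1) • y := by rw [hy, smul_inv_smul₀ ha']
    rw [this]; module
  rw [e, qel_zero] at h
  exact ⟨y, hy1, _, h⟩

theorem exists_ne_zero_one (hq : 3 ≤ Fintype.card F) : ∃ a : F, a ≠ 0 ∧ a ≠ 1 := by
  classical
  by_contra h
  have hsub : (Finset.univ : Finset F) ⊆ {0, 1} := fun a _ => by
    by_contra ha
    simp only [Finset.mem_insert, Finset.mem_singleton, not_or] at ha
    exact h ⟨a, ha⟩
  have := (Finset.card_le_card hsub).trans Finset.card_le_two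
  rw [Finset.card_univ] at this
  omega

theorem commutator_of_central {G : Type*} [Group G] {c c' k k' : G} (hk : Commute c k)
    (hk' : Commute c k') (hk2 : Commute c' k) (hk2' : Commute c' k') (hcc : Commute c c') :
    c * k * (c' * k') * (c * k)⁻¹ * (c' * k')⁻¹ = k * k' * k⁻¹ * k'⁻¹ := by
  have h1 : Commute c (k * c' * k' * k⁻¹) :=
    (((hk.mul_right hcc).mul_right hk').mul_right hk.inv_right)
  have h2 : Commute c' (k' * k⁻¹ * k'⁻¹) :=
    ((hk2'.mul_right hk2.inv_right).mul_right hk2'.inv_right)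
  calc c * k * (c' * k') * (c * k)⁻¹ * (c' * k')⁻¹
      = c * (k * c' * k' * k⁻¹) * c⁻¹ * k'⁻¹ * c'⁻¹ := by group
    _ = k * c' * k' * k⁻¹ * k'⁻¹ * c'⁻¹ := by rw [h1.eq]; group
    _ = k * (c' * (k' * k⁻¹ * k'⁻¹)) * c'⁻¹ := by group
    _ = k * k' * k⁻¹ * k'⁻¹ := by rw [h2.eq]; group

/-- Conjugating a lift of an element of the fixer by a torus element. -/
theorem torus_conj {u v : Vec m F} (hp : ω u v = 1) (a : Fˣ) {w : Vec m F} (hw : w ∈ perp2 u v)
    (t : F) {k : Sp m F} (hk : k ∈ fixPair u v) :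
    dd hp a * (qel u w t * k) * (dd hp a)⁻¹ = qel u ((a : F) • w) ((a : F) ^ 2 * t) * k := by
  rw [← mul_assoc, isLevi_conj_qel (dd_isLevi hp a) hw.1, dd_smul_perp hp a hw, mul_assoc _ _ k,
    ← dd_comm hp a hk, ← mul_assoc, mul_inv_cancel_right]

theorem torus_conj' {u v : Vec m F} (hp : ω u v = 1) (a : Fˣ) {w : Vec m F} (hw : w ∈ perp2 u v)
    (T t : F) {k : Sp m F} (hk : k ∈ fixPair u v) :
    tv u T * dd hp a * (qel u w t * k) * (tv u T * dd hp a)⁻¹ =
      qel u ((a : F) • w) ((a : F) ^ 2 * t) * k := by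
  have haw : ω u ((a : F) • w) = 0 := by rw [sympForm_smul_right, hw.1, mul_zero]
  have hc : Commute (tv u T) (qel u ((a : F) • w) ((a : F) ^ 2 * t)) := by
    rw [commute_iff_eq, ← qel_zero, qel_mul (sympForm_zero_right u) haw,
      qel_mul haw (sympForm_zero_right u), add_comm T]
    simp
  have hc' : Commute (tv u T) k := (tv_comm_fixPair T hk).symm
  calc tv u T * dd hp a * (qel u w t * k) * (tv u T * dd hp a)⁻¹
      = tv u T * (dd hp a * (qel u w t * k) * (dd hp a)⁻¹) * (tv u T)⁻¹ := by group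
    _ = _ := by rw [torus_conj hp a hw t hk, (hc.mul_right hc').eq, mul_inv_cancel_right]

/-! ### The torus shape -/

theorem torus_full {H : Subgroup (Sp m F)} {u v : Vec m F} (hm : 2 ≤ m)
    (hq : 3 ≤ Fintype.card F) (hexc : ¬ (m = 2 ∧ Fintype.card F = 3)) (hp : ω u v = 1)
    (hC : Cb H u v = ⊥) (hM : fixPair u v ≤ M0 H u v) {a : Fˣ} (ha : a ∈ Scal H u v)
    (ha1 : a ≠ 1) :
    ∃ u' v', ω u' v' = 1 ∧ ∀ z ∈ perp2 u' v', Full H z := by
  obtain ⟨l, hl, hlift⟩ := ha
  have hl0 : l⁻¹ * dd hp a ∈ fixPair u v := by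
    rw [← isLevi_one_iff]
    have := hl.inv.mul (dd_isLevi hp a)
    rwa [inv_mul_cancel] at this
  have hdd : Lifts H u v (dd hp a) := by
    have := Lifts.mul hl hlift (hM hl0).2
    rwa [mul_inv_cancel_left] at this
  obtain ⟨y, hy, t₀, ht₀⟩ := exists_conj_torus hp ha1 hdd
  obtain ⟨hCb, -, -, hLifts⟩ := radical_conj (H := H) hy 0
  set H' := conjH H (qel u y 0)
  have hall : ∀ k ∈ fixPair u v, ∃ t, tv u t * k ∈ H' := by
    intro k hk
    obtain ⟨w, hw, t, ht⟩ := hLifts (isLevi_one_iff.2 hk) (hM hk).2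
    have haw : (a : F) • w ∈ perp2 u v := Submodule.smul_mem _ _ hw
    have h := H'.mul_mem (H'.mul_mem (H'.mul_mem ht₀ ht) (H'.inv_mem ht₀)) (H'.inv_mem ht)
    have e := torus_conj' hp a hw t₀ t hk
    rw [e, mul_inv_rev, ← mul_assoc, mul_inv_cancel_right, qel_inv hw.1,
      qel_mul haw.1 (Submodule.neg_mem (perp2 u v) hw).1] at h
    have hmem : (a : F) • w + -w ∈ Cb H' u v :=
      ⟨Submodule.add_mem _ haw (Submodule.neg_mem _ hw), _, h⟩
    have h0 := hCb _ hmem
    rw [hC, AddSubgroup.mem_bot] at h0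
    have hw0 : w = 0 := by
      have h1 : ((a : F) - 1) • w = 0 := by rw [sub_smul, one_smul, sub_eq_add_neg, h0]
      exact (smul_eq_zero.1 h1).resolve_left (sub_ne_zero.2 fun h => ha1 (Units.ext h))
    rw [hw0, qel_zero] at ht
    exact ⟨t, ht⟩
  have hsub : fixPair u v ≤ H' := by
    conv_lhs => rw [← fixPair_perfect hm hq hexc hp]
    rw [Subgroup.commutator_le]
    intro k hk k' hk'
    obtain ⟨t, ht⟩ := hall k hk
    obtain ⟨t', ht'⟩ := hall k' hk'
    have h := H'.mul_mem (H'.mul_mem (H'.mul_mem ht ht') (H'.inv_mem ht)) (H'.inv_mem ht')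
    rw [commutator_of_central (tv_comm_fixPair t hk).symm (tv_comm_fixPair t hk').symm
      (tv_comm_fixPair t' hk).symm (tv_comm_fixPair t' hk').symm
      (by rw [commute_iff_eq, tv_mul_tv, tv_mul_tv, add_comm])] at h
    rwa [commutatorElement_def]
  refine ⟨(qel u y 0)⁻¹ • u, (qel u y 0)⁻¹ • v, by rw [sympForm_smul_smul, hp], fun z hz => ?_⟩
  rw [← inv_smul_smul (qel u y 0) z] at hz ⊢
  rw [mem_perp2_smul] at hz
  exact full_of_conj fun c => hsub (tv_mem_fixPair hz c)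

/-! ### Characteristic two -/

/-- A transvection of the Levi complement shears the lifts. -/
theorem shear_mem {H : Subgroup (Sp m F)} {u v y z : Vec m F} (h2 : (2 : F) = 0) {s : F}
    (hy : y ∈ Cb H u v) (hz : z ∈ perp2 u v) (hs : tv z s ∈ M0 H u v) :
    qel u ((s * ω y z) • z) (s * ω y z ^ 2) ∈ H := by
  obtain ⟨hy1, t, ht⟩ := hy
  obtain ⟨hfix, w, hw, t₀, ht₀⟩ := hs
  have h := H.mul_mem (H.mul_mem (H.mul_mem ht₀ ht) (H.inv_mem ht₀)) (H.inv_mem ht)
  have hl := isLevi_one_iff.2 hfix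
  have hy2 : tv z s • y ∈ perp2 u v := hl.smul_mem hy1
  have e : qel u w t₀ * tv z s * qel u y t * (qel u w t₀ * tv z s)⁻¹ = qel u (tv z s • y) t := by
    rw [mul_assoc (qel u w t₀), isLevi_conj_qel hl hy1.1, Units.val_one, one_smul, one_pow,
      one_mul, mul_inv_rev, ← mul_assoc, ← mul_assoc (qel u w t₀), mul_inv_cancel_right,
      qel_conj_qel hw.1 hy2.1, h2, zero_mul, add_zero]
  rw [e, qel_inv hy1.1, qel_mul hy2.1 (Submodule.neg_mem (perp2 u v) hy1).1, tv_smul] at h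
  convert h using 2
  · module
  · have h3 : ∀ x : F, -x = x := fun x => by linear_combination (-x) * h2
    rw [add_neg_cancel, zero_add, ← neg_one_smul F y, sympForm_smul_left, sympForm_add_right,
      sympForm_smul_right, sympForm_self, neg_one_mul, h3]
    ring

theorem perp_absurd {H : Subgroup (Sp m F)} {u v y z : Vec m F} (hq : 3 ≤ Fintype.card F)
    (h2 : (2 : F) = 0) (hD : Dg H u ≠ ⊤) (hy : ∀ f : F, f • y ∈ Cb H u v)
    (hz : z ∈ perp2 u v) (hyz : ω y z ≠ 0) (hM : ∀ s, tv z s ∈ M0 H u v) : False := by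
  obtain ⟨a, ha⟩ := exists_ne_zero_one hq
  have key : ∀ c : F, c ≠ 0 → ∀ d : F, qel u (d • z) (d * c) ∈ H := fun c hc d => by
    have h := shear_mem h2 (hy (c / ω y z)) hz (hM (d / c))
    rw [sympForm_smul_left, div_mul_cancel₀ c hyz, div_mul_cancel₀ d hc] at h
    convert h using 2
    field_simp
  refine hD ((AddSubgroup.eq_top_iff' _).2 fun x => ?_)
  have ha1 : a - 1 ≠ 0 := sub_ne_zero.2 ha.2
  have h := H.mul_mem (key a ha.1 (x / (a - 1))) (H.inv_mem (key 1 one_ne_zero (x / (a - 1))))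
  have hz1 : ω u ((x / (a - 1)) • z) = 0 := by rw [sympForm_smul_right, hz.1, mul_zero]
  have hneg : ω u (-((x / (a - 1)) • z)) = 0 := by
    rw [← neg_one_smul F, sympForm_smul_right, hz1, mul_zero]
  rw [qel_inv hz1, qel_mul hz1 hneg, add_neg_cancel, qel_zero, form_neg_left,
    sympForm_self, neg_zero, add_zero, mul_one] at h
  rw [mem_Dg]
  convert h using 2
  field_simp
  ring

/-- Orthogonal non-full points with full image commute without central part. -/
theorem mutual_qel {H : Subgroup (Sp m F)} {u v z z' : Vec m F} (hq : 3 ≤ Fintype.card F)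
    (h2 : (2 : F) = 0) (hz : z ∈ perp2 u v) (hz' : z' ∈ perp2 u v) (hp' : ω z z' = 1)
    (hu : u ∈ perp2 z z') (hv : v ∈ perp2 z z') (hp : ω u v = 1) (hDz : Dg H z ≠ ⊤)
    (hCu : ∀ w ∈ perp2 u v, w ∈ Cb H u v) (hCz : ∀ w ∈ perp2 z z', w ∈ Cb H z z') (f : F) :
    qel u (f • z) 0 ∈ H := by
  obtain ⟨-, s, hs⟩ := hCz (f • u) (Submodule.smul_mem _ _ hu)
  have hfu : ω z (f • u) = 0 := by rw [sympForm_smul_right, hu.1, mul_zero]
  have hfz : ω u (f • z) = 0 := by rw [sympForm_smul_right, hz.1, mul_zero]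
  have hsplit : qel z (f • u) s = qel u (f • z) 0 * tv z s := by
    rw [qel_swap hz.1, ← qel_zero, qel_mul hfu (sympForm_zero_right z), add_zero, zero_add,
      sympForm_zero_left, add_zero]
  rw [hsplit] at hs
  by_cases hs0 : s = 0
  · rwa [hs0, tv_zero, mul_one] at hs
  exfalso
  have hMs : tv z s ∈ M0 H u v :=
    ⟨tv_mem_fixPair hz s, _, Submodule.smul_mem _ _ hz, _, hs⟩
  have hyz : ω z' z = 1 := by
    rw [sympForm_swap, hp']; linear_combination (-1 : F) * h2
  have hT : ∀ c : F, c ≠ 0 → ∀ d : F, qel z (d • u) (d ^ 2 * s / c ^ 2) ∈ H := by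
    intro c hc d
    have h := shear_mem h2 (hCu _ (Submodule.smul_mem _ (c / s) hz')) hz hMs
    rw [sympForm_smul_left, hyz, mul_one, mul_div_cancel₀ c hs0] at h
    have hcz : ω u (c • z) = 0 := by rw [sympForm_smul_right, hz.1, mul_zero]
    set t := s * (c / s) ^ 2 with ht
    have hsplit' : qel u (c • z) t = qel z (c • u) 0 * tv u t := by
      rw [← qel_swap hz.1, ← qel_zero, qel_mul hcz (sympForm_zero_right u), add_zero, zero_add,
        sympForm_zero_left, add_zero]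
    rw [hsplit'] at h
    have hMt : tv u t ∈ M0 H z z' :=
      ⟨tv_mem_fixPair hu t, _, Submodule.smul_mem _ _ hu, _, h⟩
    have ht0 : t ≠ 0 := mul_ne_zero hs0 (pow_ne_zero _ (div_ne_zero hc hs0))
    have hvu : ω v u = 1 := by rw [sympForm_swap, hp]; linear_combination (-1 : F) * h2
    have h' := shear_mem h2 (hCz _ (Submodule.smul_mem _ (d / t) hv)) hu hMt
    rw [sympForm_smul_left, hvu, mul_one, mul_div_cancel₀ d ht0] at h'
    convert h' using 2
    rw [ht]
    field_simp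
  obtain ⟨a, ha⟩ := exists_ne_zero_one hq
  have hne : s / (1 : F) ^ 2 - s / a ^ 2 ≠ 0 := by
    intro h
    rw [one_pow, div_one, sub_eq_zero, eq_div_iff (pow_ne_zero _ ha.1)] at h
    have h3 : (a - 1) ^ 2 = 0 := by
      have : a ^ 2 = 1 := mul_left_cancel₀ hs0 (h.trans (mul_one s).symm)
      linear_combination this + (1 - a) * h2
    exact ha.2 (sub_eq_zero.1 (pow_eq_zero_iff two_ne_zero |>.1 h3))
  refine hDz ((AddSubgroup.eq_top_iff' _).2 fun x => ?_)
  have hsq : IsSquare (x / (s / (1 : F) ^ 2 - s / a ^ 2)) :=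
    FiniteField.isSquare_of_char_two (by
      by_contra h
      exact Ring.two_ne_zero h h2) _
  obtain ⟨d, hd⟩ := hsq
  have h := H.mul_mem (hT 1 one_ne_zero d) (H.inv_mem (hT a ha.1 d))
  have hdu : ω z (d • u) = 0 := by rw [sympForm_smul_right, hu.1, mul_zero]
  have hneg : ω z (-(d • u)) = 0 := by
    rw [← neg_one_smul F, sympForm_smul_right, hdu, mul_zero]
  rw [qel_inv hdu, qel_mul hdu hneg, add_neg_cancel, qel_zero, ← neg_one_smul F (d • u),
    sympForm_smul_left, sympForm_self, mul_zero, add_zero] at h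
  rw [mem_Dg]
  convert h using 2
  have := (div_eq_iff hne).1 hd
  rw [this]
  ring

/-! ### The line shape -/

theorem perp_line_eq {u v x w : Vec m F} (hm : m = 2) (hp : ω u v = 1) (hx : x ∈ perp2 u v)
    (hx0 : x ≠ 0) (hw : w ∈ perp2 u v) (h : ω x w = 0) : ∃ c : F, w = c • x := by
  set S := {y : Vec m F | y ∈ perp2 u v ∧ ω x y = 0}
  have hsub : Set.range (fun c : F => c • x) ⊆ S := by
    rintro _ ⟨c, rfl⟩
    exact ⟨Submodule.smul_mem _ _ hx, by rw [sympForm_smul_right, sympForm_self, mul_zero]⟩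
  have hcard := card_perp_line hp hx hx0
  rw [card_perp2 hp (by omega), show 2 * (m - 1) = 1 + 1 by omega, pow_succ, pow_one] at hcard
  have heq : Set.range (fun c : F => c • x) = S := by
    refine Set.eq_of_subset_of_ncard_le hsub ?_
    rw [Set.ncard_range_of_injective (smul_left_injective F hx0), Nat.card_eq_fintype_card]
    exact (Nat.eq_of_mul_eq_mul_right Fintype.card_pos hcard).le
  obtain ⟨c, hc⟩ : w ∈ Set.range (fun c : F => c • x) := heq ▸ ⟨hw, h⟩
  exact ⟨c, hc.symm⟩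

theorem line_two_core {H : Subgroup (Sp m F)} {u v x : Vec m F} (hp : ω u v = 1) {a : Fˣ}
    (ha : (a : F) - 1 ≠ 0) (ha2 : (a : F) ^ 2 - 1 ≠ 0) (hdd : dd hp a ∈ H)
    (hC : ∀ w, w ∈ Cb H u v ↔ ∃ c : F, w = c • x)
    (hD : ∀ d ∈ Dg H u, (a : F) ^ 2 * d ∈ Dg H u)
    {s : F} (hx : x ∈ perp2 u v) (hlift : Lifts H u v (tv x s)) : tv x s ∈ H := by
  obtain ⟨w, hw, t', ht'⟩ := hlift
  have hk := tv_mem_fixPair hx s
  have h := H.mul_mem (H.mul_mem (H.mul_mem hdd ht') (H.inv_mem hdd)) (H.inv_mem ht')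
  have haw : (a : F) • w ∈ perp2 u v := Submodule.smul_mem _ _ hw
  rw [torus_conj hp a hw t' hk, mul_inv_rev, ← mul_assoc, mul_inv_cancel_right, qel_inv hw.1,
    qel_mul haw.1 (Submodule.neg_mem (perp2 u v) hw).1] at h
  have hmem : (a : F) • w + -w ∈ Cb H u v :=
    ⟨Submodule.add_mem _ haw (Submodule.neg_mem _ hw), _, h⟩
  obtain ⟨c, hc⟩ := (hC _).1 hmem
  have hwx : w = (((a : F) - 1)⁻¹ * c) • x := by
    rw [← smul_smul, ← hc, ← neg_one_smul F w, ← add_smul, ← sub_eq_add_neg,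
      inv_smul_smul₀ ha]
  obtain ⟨-, φ, hφ⟩ := (hC w).2 ⟨_, hwx⟩
  have hk' := H.mul_mem (H.inv_mem hφ) ht'
  rw [← mul_assoc, qel_inv hw.1, qel_mul (Submodule.neg_mem (perp2 u v) hw).1 hw.1,
    neg_add_cancel] at hk'
  obtain ⟨t'', hk'⟩ : ∃ t'', qel u 0 t'' * tv x s ∈ H := ⟨_, hk'⟩
  have h' := H.mul_mem (H.mul_mem (H.mul_mem hdd hk') (H.inv_mem hdd)) (H.inv_mem hk')
  rw [torus_conj hp a (Submodule.zero_mem _) t'' hk, smul_zero, mul_inv_rev, ← mul_assoc,
    mul_inv_cancel_right, qel_zero, qel_zero, tv_inv, tv_mul_tv] at h'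
  have hDin : t'' ∈ Dg H u := by
    refine mem_of_mul_mem ha2 (fun d hd => ?_) ?_
    · rw [sub_mul, one_mul]
      exact AddSubgroup.sub_mem _ (hD d hd) hd
    · rw [sub_mul, one_mul, sub_eq_add_neg]
      exact h'
  rw [qel_zero] at hk'
  have h5 := H.mul_mem (H.inv_mem (mem_Dg.1 hDin)) hk'
  rwa [inv_mul_cancel_left] at h5

theorem line_odd_core {H : Subgroup (Sp m F)} {u v x z : Vec m F} (hm : m = 2) (hp : ω u v = 1)
    (h2 : (2 : F) ≠ 0) (hD : Dg H u ≠ ⊤) (hx : x ∈ perp2 u v) (hx0 : x ≠ 0) (hz : z ∈ perp2 u v)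
    (hxz : ω x z = 1) {b : Fˣ} (hb : (b : F) ^ 2 - 1 ≠ 0) {T : F}
    (hT : tv u T * dd hxz b ∈ H) (hC : ∀ w, w ∈ Cb H u v ↔ ∃ c : F, w = c • x)
    (hlift : ∀ s, Lifts H u v (tv x s)) : Full H x := by
  intro s₁
  set τ := dd hxz b
  have hτfix : τ ∈ fixPair u v := dd_mem_fixPair hx hz hxz b
  set s := s₁ / ((b : F) ^ 2 - 1) with hs
  have hk0 := tv_mem_fixPair hx s
  obtain ⟨w', hw', t', ht'⟩ := hlift s
  have hxw : ω x w' = 0 := by
    by_contra hne
    refine hD ((AddSubgroup.eq_top_iff' _).2 fun d => ?_)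
    set c := d / (2 * ω x w') with hcdef
    obtain ⟨hcx, φ, hφ⟩ := (hC (c • x)).2 ⟨c, rfl⟩
    have h := H.mul_mem (H.mul_mem (H.mul_mem ht' hφ) (H.inv_mem ht')) (H.inv_mem hφ)
    have e5 : qel u w' t' * tv x s * qel u (c • x) φ * (qel u w' t' * tv x s)⁻¹ =
        qel u (c • x) (φ + 2 * ω (c • x) w') := by
      rw [mul_assoc (qel u w' t'), isLevi_conj_qel (isLevi_one_iff.2 hk0) hcx.1,
        Units.val_one, one_smul, one_pow, one_mul, smul_comm, tv_smul_of_orth s (sympForm_self x),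
        mul_inv_rev, ← mul_assoc, ← mul_assoc (qel u w' t'), mul_inv_cancel_right,
        qel_conj_qel hw'.1 hcx.1]
    rw [e5, qel_inv hcx.1, qel_mul hcx.1 (Submodule.neg_mem (perp2 u v) hcx).1, add_neg_cancel,
      qel_zero] at h
    have he : φ + 2 * ω (c • x) w' + -φ + ω (-(c • x)) (c • x) = d := by
      rw [form_neg_left, sympForm_self, neg_zero, add_zero, sympForm_smul_left, hcdef]
      field_simp
      ring
    rwa [he] at h
  obtain ⟨c, hc⟩ := perp_line_eq hm hp hx hx0 hw' hxw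
  obtain ⟨-, φ, hφ⟩ := (hC w').2 ⟨c, hc⟩
  have hk := H.mul_mem (H.inv_mem hφ) ht'
  rw [← mul_assoc, qel_inv hw'.1, qel_mul (Submodule.neg_mem (perp2 u v) hw').1 hw'.1,
    neg_add_cancel, qel_zero] at hk
  obtain ⟨t'', hk⟩ : ∃ t'', tv u t'' * tv x s ∈ H := ⟨_, hk⟩
  have h := H.mul_mem (H.mul_mem (H.mul_mem hT hk) (H.inv_mem hT)) (H.inv_mem hk)
  have e7 : τ * tv x s * τ⁻¹ = tv x ((b : F) ^ 2 * s) := by
    rw [conj_tv, (dd_isLevi hxz b).1, tv_smul_vec]
  have c1 : Commute (tv u T) τ := (tv_comm_fixPair T hτfix).symm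
  have c2 : Commute (tv u t'') τ := (tv_comm_fixPair t'' hτfix).symm
  have c3 : Commute (tv u t'') (tv x s) := (tv_comm_fixPair t'' hk0).symm
  have c4 : Commute (tv u T) (tv x s) := (tv_comm_fixPair T hk0).symm
  have c5 : Commute (tv u T) (tv u t'') := by
    rw [commute_iff_eq, tv_mul_tv, tv_mul_tv, add_comm]
  rw [commutator_of_central c1 c4 c2 c3 c5, e7, tv_inv x, tv_mul_tv] at h
  have he : (b : F) ^ 2 * s + -s = s₁ := by
    rw [hs]
    field_simp
    ring
  rwa [he] at h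

theorem exists_torus_elem {H : Subgroup (Sp m F)} {u v : Vec m F} (hp : ω u v = 1) {a : Fˣ}
    (ha1 : a ≠ 1) (ha2 : (a : F) ^ 2 - 1 ≠ 0) (hdd : Lifts H u v (dd hp a)) :
    ∃ g : Sp m F, dd hp a ∈ conjH H g ∧ (∀ w, w ∈ Cb (conjH H g) u v ↔ w ∈ Cb H u v) ∧
      Dg (conjH H g) u = Dg H u ∧
      ∀ {l : Sp m F} {b : Fˣ}, IsLevi u v l b → Lifts H u v l → Lifts (conjH H g) u v l := by
  obtain ⟨y, hy, t₁, ht₁⟩ := exists_conj_torus hp ha1 hdd
  set s₀ := t₁ / ((a : F) ^ 2 - 1) with hs₀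
  obtain ⟨hC1, hC2, hD1, hL1⟩ := radical_conj (H := H) hy 0
  obtain ⟨hC3, hC4, hD3, hL3⟩ :=
    radical_conj (H := conjH H (qel u y 0)) (Submodule.zero_mem (perp2 u v)) s₀
  have hconj : conjH (conjH H (qel u y 0)) (qel u 0 s₀) = conjH H (qel u 0 s₀ * qel u y 0) := by
    ext k
    simp [mem_conjH, mul_assoc]
  rw [hconj] at hC3 hC4 hD3 hL3
  refine ⟨qel u 0 s₀ * qel u y 0, ?_, fun w => ⟨fun h => hC1 _ (hC3 _ h), fun h => hC4 _ (hC2 _ h)⟩,
    hD3.trans hD1, fun hl h => hL3 hl (hL1 hl h)⟩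
  have h := conj_mem_conjH (qel u 0 s₀) ht₁
  rw [hconj] at h
  have e1 : dd hp a * (tv u s₀)⁻¹ = tv u ((a : F) ^ 2 * -s₀) * dd hp a := by
    rw [tv_inv, ← qel_zero, isLevi_conj_qel (dd_isLevi hp a) (sympForm_zero_right u),
      smul_zero, smul_zero, qel_zero]
  rw [qel_zero, mul_assoc (tv u s₀), mul_assoc (tv u t₁), e1, ← mul_assoc, ← mul_assoc,
    tv_mul_tv, tv_mul_tv] at h
  have e2 : s₀ + (t₁ + (a : F) ^ 2 * -s₀) = 0 := by
    rw [hs₀]; field_simp; ring
  rw [add_assoc, e2, tv_zero, one_mul, ← qel_zero] at h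
  exact h

theorem exists_torus_pair {H : Subgroup (Sp m F)} {u v x z : Vec m F} (hm : m = 2)
    (hp : ω u v = 1) (hx : x ∈ perp2 u v) (hx0 : x ≠ 0) (hz : z ∈ perp2 u v) (hxz : ω x z = 1)
    {b : Fˣ} (hb : b ≠ 1) (hlift : Lifts H u v (dd hxz b)) :
    ∃ y ∈ perp2 u v, ∃ T, tv u T * dd hxz b ∈ conjH H (qel u y 0) := by
  obtain ⟨w, hw, t, ht⟩ := hlift
  have hτfix := dd_mem_fixPair hx hz hxz b
  have hb1 : (b : F) - 1 ≠ 0 := sub_ne_zero.2 fun h => hb (Units.ext h)
  have hb2 : ((b⁻¹ : Fˣ) : F) - 1 ≠ 0 := sub_ne_zero.2 fun h =>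
    hb (inv_eq_one.1 (Units.ext h))
  set y := (ω w z / ((b : F) - 1)) • x + (ω x w / (((b⁻¹ : Fˣ) : F) - 1)) • z with hy
  have hy1 : y ∈ perp2 u v :=
    Submodule.add_mem _ (Submodule.smul_mem _ _ hx) (Submodule.smul_mem _ _ hz)
  have hyw : y + w + dd hxz b • (-y) = 0 := by
    obtain ⟨c, hc⟩ := perp_line_eq hm hp hx hx0 (w := w - ω x w • z)
      (Submodule.sub_mem _ hw (Submodule.smul_mem _ _ hz))
      (by rw [sympForm_sub_right, sympForm_smul_right, hxz, mul_one, sub_self])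
    have hwz : ω w z = c := by
      have := congrArg (fun q => ω q z) hc
      simpa [sympForm_sub_left, sympForm_smul_left, hxz] using this
    have hwd : w = ω w z • x + ω x w • z := by rw [hwz, ← hc, sub_add_cancel]
    have e1 : ω (-y) z = -(ω w z / ((b : F) - 1)) := by
      rw [← neg_one_smul F y, hy, sympForm_smul_left, sympForm_add_left, sympForm_smul_left,
        sympForm_smul_left, hxz, sympForm_self]
      ring
    have e2 : ω x (-y) = -(ω x w / (((b⁻¹ : Fˣ) : F) - 1)) := by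
      rw [← neg_one_smul F y, hy, sympForm_smul_right, sympForm_add_right, sympForm_smul_right,
        sympForm_smul_right, hxz, sympForm_self]
      ring
    rw [dd_smul, e1, e2, mul_neg, mul_neg, mul_div_cancel₀ _ hb1, mul_div_cancel₀ _ hb2]
    nth_rw 1 [hwd]
    module
  have hy2 := Submodule.neg_mem (perp2 u v) hy1
  have h0 := conj_mem_conjH (qel u y 0) ht
  rw [qel_inv hy1.1, ← mul_assoc, mul_assoc _ (dd hxz b),
    isLevi_conj_qel (isLevi_one_iff.2 hτfix) hy2.1, Units.val_one, one_smul, ← mul_assoc,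
    qel_mul hy1.1 hw.1, qel_mul (Submodule.add_mem (perp2 u v) hy1 hw).1
      (fixPair_smul_mem hτfix hy2).1, hyw, qel_zero] at h0
  exact ⟨y, hy1, _, h0⟩

theorem line_full {H : Subgroup (Sp m F)} {u v x : Vec m F} (hm : m = 2)
    (hq : 4 ≤ Fintype.card F) (hp : ω u v = 1) (hD : Dg H u ≠ ⊤) (hx : x ∈ perp2 u v)
    (hx0 : x ≠ 0) (hC : ∀ w, w ∈ Cb H u v ↔ ∃ c : F, w = c • x)
    (ht : (Dg H u).index * (Scal H u v).index *
        (M0 H u v).relIndex (setStab u v
          (((Submodule.span F {x} : Submodule F (Vec m F)) : Set (Vec m F)) \ {0})) ≤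
            Fintype.card F) :
    ∃ w, w ≠ 0 ∧ Full H w := by
  classical
  have hρ := rho_bound H (v := v) hD
  set q := Fintype.card F
  set Y : Set (Vec m F) := ((Submodule.span F {x} : Submodule F (Vec m F)) : Set (Vec m F)) \ {0}
  set r := (Dg H u).index
  set e := (Scal H u v).index
  set t := (M0 H u v).relIndex (setStab u v Y)
  obtain ⟨hρ, hρ2⟩ := hρ
  have hstab : ∀ l ∈ fixPair u v, (∃ c : F, l • x = c • x) → l ∈ setStab u v Y := by
    rintro l hl ⟨c, hc⟩
    refine ⟨hl, smul_set_eq_of_subset fun y hy => ⟨?_, smul_ne_zero_of_ne_zero l hy.2⟩⟩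
    obtain ⟨d, rfl⟩ := Submodule.mem_span_singleton.1 hy.1
    rw [smul_comm, hc, smul_smul]
    exact Submodule.smul_mem _ _ (Submodule.mem_span_singleton_self x)
  have ht0 : 1 ≤ t := Nat.pos_of_ne_zero Subgroup.index_ne_zero_of_finite
  have hU : ∀ s : F, tv x s ∈ setStab u v Y := fun s =>
    hstab _ (tv_mem_fixPair hx s) ⟨1, by rw [one_smul, tv_smul_of_orth s (sympForm_self x)]⟩
  by_cases h2 : (2 : F) = 0
  · -- characteristic two
    have hre := hρ2 h2
    have ht1 : t = 1 := by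
      by_contra hne
      have := Nat.mul_le_mul hre (show 2 ≤ t by omega)
      omega
    have hle := Subgroup.relIndex_eq_one.1 ht1
    obtain ⟨a, ha, ha1⟩ : ∃ a ∈ Scal H u v, a ≠ 1 := by
      by_contra h
      have hbot : Scal H u v = ⊥ := by
        rw [Subgroup.eq_bot_iff_forall]
        intro a ha
        by_contra h'
        exact h ⟨a, ha, h'⟩
      have he : e = q - 1 := by
        show (Scal H u v).index = _
        rw [hbot, Subgroup.index_bot, Nat.card_units, Nat.card_eq_fintype_card]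
      have hr2 : 2 ≤ r := by
        have h0 : r ≠ 0 := AddSubgroup.index_ne_zero_of_finite
        have h1 : r ≠ 1 := fun h => hD (AddSubgroup.index_eq_one.1 h)
        omega
      have h3 : r * e ≤ q := le_trans (Nat.le_mul_of_pos_right _ ht0) ht
      rw [he] at h3
      have := Nat.mul_le_mul_right (q - 1) hr2
      omega
    obtain ⟨l, hl, hlift⟩ := ha
    obtain ⟨c, hc⟩ := (hC _).1 (Cb_smul hl hlift ((hC x).2 ⟨1, (one_smul F x).symm⟩))
    set c' := (a : F)⁻¹ * c
    have hlx : l • x = c' • x := by rw [← smul_smul, ← hc, inv_smul_smul₀ a.ne_zero]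
    have hdd : Lifts H u v (dd hp a) := by
      have hl0 : l⁻¹ * dd hp a ∈ fixPair u v := by
        rw [← isLevi_one_iff]
        have := hl.inv.mul (dd_isLevi hp a)
        rwa [inv_mul_cancel] at this
      have hmem : l⁻¹ * dd hp a ∈ M0 H u v := by
        refine hle (hstab _ hl0 ?_)
        have hc0 : c' ≠ 0 := fun h => by
          rw [h, zero_smul] at hlx
          exact smul_ne_zero_of_ne_zero l hx0 hlx
        exact ⟨c'⁻¹, by rw [mul_smul, dd_smul_perp hp a hx, inv_smul_eq_iff, smul_comm, hlx,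
          inv_smul_smul₀ hc0]⟩
      have := Lifts.mul hl hlift hmem.2
      rwa [mul_inv_cancel_left] at this
    have ha' : (a : F) - 1 ≠ 0 := sub_ne_zero.2 fun h => ha1 (Units.ext h)
    have ha2 : (a : F) ^ 2 - 1 ≠ 0 := by
      intro h
      refine ha' ?_
      have h3 : ((a : F) - 1) ^ 2 = 0 := by linear_combination h + (1 - (a : F)) * h2
      exact (pow_eq_zero_iff two_ne_zero).1 h3
    obtain ⟨g, hg, hCg, hDg, hLg⟩ := exists_torus_elem hp ha1 ha2 hdd
    refine ⟨g⁻¹ • x, smul_ne_zero_of_ne_zero _ hx0, full_of_conj fun s => ?_⟩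
    exact line_two_core hp ha' ha2 hg (fun w => (hCg w).trans (hC w))
      (fun d hd => by rw [hDg] at hd ⊢; exact Dg_smul ⟨l, hl, hlift⟩ hd) hx
      (hLg (isLevi_one_iff.2 (tv_mem_fixPair hx s)) (hle (hU s)).2)
  · -- odd characteristic
    have hq5 : q = 5 → t = 1 := by
      intro h5
      obtain ⟨pp, hchar⟩ := CharP.exists F
      haveI : Fact pp.Prime := ⟨CharP.char_is_prime F pp⟩
      obtain ⟨n, hnp, hn⟩ := FiniteField.card F pp
      have hn' : q = pp ^ (n : ℕ) := hn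
      have h5' : pp = 5 := (Nat.prime_dvd_prime_iff_eq hnp Nat.prime_five).1
        (h5 ▸ hn' ▸ dvd_pow_self pp n.ne_zero)
      have hr5 : 5 ≤ r := h5' ▸ prime_le_index hD
      have he0 : 1 ≤ e := Nat.pos_of_ne_zero Subgroup.index_ne_zero_of_finite
      by_contra hne
      have := Nat.mul_le_mul (Nat.mul_le_mul hr5 he0) (show 2 ≤ t by omega)
      omega
    have ht2 : t ≤ 2 := by
      by_contra hne
      have := Nat.mul_le_mul hρ (show 3 ≤ t by omega)
      nlinarith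
    have hsq : ∀ l ∈ setStab u v Y, l * l ∈ M0 H u v := by
      intro l hl
      by_cases h1 : t = 1
      · exact mul_mem (Subgroup.relIndex_eq_one.1 h1 hl) (Subgroup.relIndex_eq_one.1 h1 hl)
      · have h2' : ((M0 H u v).subgroupOf (setStab u v Y)).index = 2 := by
          have : t = 2 := by omega
          exact this
        exact Subgroup.mul_self_mem_of_index_two h2' (⟨l, hl⟩ : setStab u v Y)
    obtain ⟨g₀, hg₀⟩ := IsCyclic.exists_generator (α := Fˣ)
    have hord : orderOf g₀ = q - 1 := by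
      rw [orderOf_eq_card_of_forall_mem_zpowers hg₀, Nat.card_units, Nat.card_eq_fintype_card]
    obtain ⟨z, hz, hxz⟩ := exists_perp2_pairing hp hx hx0
    obtain ⟨b, hb1, hbM⟩ : ∃ b : Fˣ, b ^ 2 ≠ 1 ∧ dd hxz b ∈ M0 H u v := by
      have hmemS : ∀ c : Fˣ, dd hxz c ∈ setStab u v Y := fun c =>
        hstab _ (dd_mem_fixPair hx hz hxz c) ⟨(c : F), (dd_isLevi hxz c).1⟩
      by_cases h5 : q = 5
      · refine ⟨g₀, fun h => ?_, Subgroup.relIndex_eq_one.1 (hq5 h5) (hmemS g₀)⟩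
        have := orderOf_le_of_pow_eq_one two_pos h
        omega
      · refine ⟨g₀ * g₀, fun h => ?_, ?_⟩
        · rw [← sq, ← pow_mul] at h
          have hle := orderOf_le_of_pow_eq_one (show 0 < 2 * 2 by norm_num) h
          have hodd : q % 2 = 1 := FiniteField.odd_card_of_char_ne_two fun e => h2 (by
            haveI : CharP F 2 := ringChar.of_eq e
            exact CharTwo.two_eq_zero)
          omega
        · have e : dd hxz (g₀ * g₀) = dd hxz g₀ * dd hxz g₀ := by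
            refine eq_of_smul_eq fun w => ?_
            rw [mul_smul, dd_smul, dd_smul, dd_smul]
            simp only [sympForm_add_left, sympForm_add_right, sympForm_smul_left,
              sympForm_smul_right, sympForm_self, hxz, mul_inv_rev, Units.val_mul]
            module
          rw [e]
          exact hsq _ (hmemS g₀)
    have hb2 : (b : F) ^ 2 - 1 ≠ 0 := sub_ne_zero.2 fun h => hb1 (Units.ext (by simpa using h))
    obtain ⟨y, hy, T, hT⟩ :=
      exists_torus_pair hm hp hx hx0 hz hxz (fun h => hb1 (by rw [h, one_pow])) hbM.2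
    obtain ⟨hC1, hC2, hDeq, hLifts⟩ := radical_conj (H := H) hy 0
    refine ⟨(qel u y 0)⁻¹ • x, smul_ne_zero_of_ne_zero _ hx0, full_of_conj ?_⟩
    refine line_odd_core hm hp h2 (hDeq ▸ hD) hx hx0 hz hxz hb2 hT
      (fun w => ⟨fun h => (hC w).1 (hC1 _ h), fun h => hC2 _ ((hC w).2 h)⟩) fun s => ?_
    refine hLifts (isLevi_one_iff.2 (tv_mem_fixPair hx s)) ?_
    have := hsq _ (hU (s / 2))
    rw [tv_mul_tv, show s / 2 + s / 2 = s by field_simp; ring] at this
    exact this.2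

end Cfsg.Agent.InvChar68.MinIndexSp
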